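/-
Thin `p`-groups (`p` odd): `|G : ℧₁(G)| ≤ p ^ 2`.

* `isMetacyclic_of_thin` : thin groups are metacyclic (Huppert)
* `thin_of_good` : groups without exponent `p` subgroup of order `> p ^ 2` and without
  subgroups of order `p ^ 4` of class three are thin
-/
import Cfsg.Agent.Lib.PGroup.Metacyclic

set_option linter.style.haveILetI false
set_option linter.unusedSectionVars false

open Subgroup
open scoped commutatorElement

universe u

namespace Cfsg.Agent.RankTwoOdd

open Cfsg.Agent.PGroup (SmallExponent exists_card_eq_pow exists_subgroup_card_eq_pow frattini_eq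
  commutator_le_frattini isCyclic_of_sup_frattini eq_top_of_sup_frattini eq_of_le_of_card_le
  mul_card_le_of_lt exists_normal_card_eq_prime exists_normal_le_card commute_of_mem_center
  le_center_of_card_eq conj_pow_eq_three commutator_lt_of_ne_bot commutator_mem_of_generators
  exists_pow_eq_mul card_sup_le zpowers_normal_of_mem_center commutator_pow_left mul_pow_classTwo pow_mem_frattini)

variable {p : ℕ} [hp : Fact p.Prime]

/-- Every quotient of exponent `p` has order at most `p ^ 2`. -/
def Thin (p : ℕ) (G : Type u) [Group G] : Prop :=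
  ∀ T : Subgroup G, T.Normal → (∀ x : G, x ^ p ∈ T) → T.index ≤ p ^ 2

theorem Thin.quotient {G : Type u} [Group G] (h : Thin p G) (N : Subgroup G) [N.Normal] :
    Thin p (G ⧸ N) := by
  intro T hT hpow
  rw [← index_comap_of_surjective T (QuotientGroup.mk'_surjective N)]
  exact h _ (hT.comap _) fun x => by rw [mem_comap, map_pow]; exact hpow _

theorem agemo_facts {G : Type u} [Group G] [Finite G] (hG : IsPGroup p G)
    (h : Thin p G) :
    frattini G = closure (Set.range fun x : G => x ^ p) ∧ (frattini G).index ≤ p ^ 2 := by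
  set M := closure (Set.range fun x : G => x ^ p) with hM
  haveI : M.Normal := ⟨fun n hn g => by
    induction hn using closure_induction with
    | mem x hx => obtain ⟨y, rfl⟩ := hx; exact subset_closure ⟨g * y * g⁻¹, conj_pow⟩
    | one => simp
    | mul x y _ _ hx hy => simpa [mul_assoc] using mul_mem hx hy
    | inv x _ hx => simpa [mul_assoc] using inv_mem hx⟩
  have hcard : Nat.card (G ⧸ M) ≤ p ^ 2 := by
    rw [← index_eq_card]
    exact h M inferInstance fun x => subset_closure ⟨x, rfl⟩
  have hcomm : _root_.commutator G ≤ M := by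
    refine Subgroup.Normal.quotient_commutative_iff_commutator_le.mp ?_
    obtain ⟨k, hk⟩ := exists_card_eq_pow (hG.to_quotient M)
    have hk2 : k ≤ 2 := (Nat.pow_le_pow_iff_right hp.out.one_lt).mp (hk ▸ hcard)
    interval_cases k
    · haveI : Subsingleton (G ⧸ M) := (Nat.card_eq_one_iff_unique.mp (by simpa using hk)).1
      exact ⟨⟨fun a b => Subsingleton.elim _ _⟩⟩
    · haveI : IsCyclic (G ⧸ M) := isCyclic_of_prime_card (p := p) (by simpa using hk)
      exact IsCyclic.isMulCommutative
    · exact IsPGroup.isMulCommutative_of_card_eq_prime_sq hk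
  have e : frattini G = M := by rw [frattini_eq hG, ← hM, sup_eq_right.mpr hcomm]
  exact ⟨e, by rw [e, index_eq_card]; exact hcard⟩

theorem exists_generators {G : Type u} [Group G] [Finite G] (hG : IsPGroup p G)
    (h : Thin p G) : ∃ a b : G, closure {a, b} = ⊤ := by
  obtain ⟨-, hi⟩ := agemo_facts hG h
  by_cases hcyc : IsCyclic G
  · obtain ⟨g, hg⟩ := hcyc.exists_generator
    exact ⟨g, 1, eq_top_iff.mpr fun x _ => (zpowers_le.mpr (subset_closure (by simp))) (hg x)⟩
  have hne : frattini G ≠ ⊤ := fun h' =>
    hcyc (isCyclic_of_sup_frattini (x := (1 : G)) (by rw [h', sup_top_eq]))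
  obtain ⟨a, -, ha⟩ := SetLike.exists_of_lt (lt_top_iff_ne_top.mpr hne)
  have hlt : frattini G < zpowers a ⊔ frattini G :=
    lt_of_le_of_ne le_sup_right fun h' => ha (h' ▸ mem_sup_left (mem_zpowers a))
  have hne2 : zpowers a ⊔ frattini G ≠ ⊤ := fun h' => hcyc (isCyclic_of_sup_frattini h')
  obtain ⟨b, -, hb⟩ := SetLike.exists_of_lt (lt_top_iff_ne_top.mpr hne2)
  refine ⟨a, b, eq_top_of_sup_frattini (eq_of_le_of_card_le le_top ?_)⟩
  have hlt2 : zpowers a ⊔ frattini G < closure {a, b} ⊔ frattini G := by
    refine lt_of_le_of_ne (sup_le_sup_right (zpowers_le.mpr (subset_closure (by simp))) _) fun h' => hb ?_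
    rw [h']; exact mem_sup_left (subset_closure (by simp))
  rw [card_top, ← card_mul_index (frattini G)]
  calc Nat.card (frattini G) * (frattini G).index ≤ p * (p * Nat.card (frattini G)) := by
        calc _ ≤ Nat.card (frattini G) * p ^ 2 := Nat.mul_le_mul le_rfl hi
          _ = _ := by ring
    _ ≤ p * Nat.card (zpowers a ⊔ frattini G : Subgroup G) :=
        Nat.mul_le_mul le_rfl (mul_card_le_of_lt hG hlt)
    _ ≤ _ := mul_card_le_of_lt hG hlt2

theorem isCyclic_commutator_of_thin (hp2 : p ≠ 2) : ∀ (n : ℕ) (G : Type u) [Group G] [Finite G],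
    IsPGroup p G → Thin p G → Nat.card G ≤ n → IsCyclic (_root_.commutator G) := by
  intro n
  induction n with
  | zero => intro G _ _ _ _ hn; exact absurd hn (not_le.mpr Nat.card_pos)
  | succ n ih =>
    intro G _ _ hG h hn
    set D := _root_.commutator G with hD
    by_cases hD1 : D = ⊥
    · rw [hD1]; infer_instance
    obtain ⟨Z, hZn, hZD, hZc, hZ⟩ := exists_normal_card_eq_prime hG hD1
    haveI := hZn
    have hlt : Nat.card (G ⧸ Z) < Nat.card G := by
      rw [card_eq_card_quotient_mul_card_subgroup Z, hZ]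
      exact lt_mul_of_one_lt_right Nat.card_pos hp.out.one_lt
    have hq := ih (G ⧸ Z) (hG.to_quotient Z) (h.quotient Z) (by omega)
    obtain ⟨c, hc⟩ := (Subgroup.isCyclic_iff_exists_zpowers_eq_top _).mp hq
    have hmap : D.map (QuotientGroup.mk' Z) = _root_.commutator (G ⧸ Z) := by
      rw [hD, _root_.commutator_def, map_commutator,
        map_top_of_surjective _ (QuotientGroup.mk'_surjective Z), _root_.commutator_def]
    obtain ⟨d, hdD, rfl⟩ : ∃ d ∈ D, QuotientGroup.mk' Z d = c := by
      have : c ∈ D.map (QuotientGroup.mk' Z) := by rw [hmap, ← hc]; exact mem_zpowers c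
      simpa using this
    have hdec : ∀ x ∈ D, ∃ k : ℤ, ∃ t ∈ Z, x = d ^ k * t := by
      intro x hx
      have : QuotientGroup.mk' Z x ∈ zpowers (QuotientGroup.mk' Z d) := by
        rw [hc, ← hmap]; exact mem_map_of_mem _ hx
      obtain ⟨k, hk⟩ := mem_zpowers_iff.mp this
      rw [← map_zpow, QuotientGroup.mk'_apply, QuotientGroup.mk'_apply, QuotientGroup.eq] at hk
      exact ⟨k, _, hk, by group⟩
    have hcommd : ∀ (k : ℤ) {t : G}, t ∈ Z → Commute (d ^ k) t := fun k t ht =>
      commute_of_mem_center (hZc ht) _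
    have hpowZ : ∀ t ∈ Z, t ^ p = 1 := fun t ht => by
      have := pow_card_eq_one' (G := Z) (x := ⟨t, ht⟩)
      rw [hZ] at this
      simpa using congrArg Subtype.val this
    by_cases hdp : d ^ p = 1
    · -- `D` has exponent `p`
      have hDexp : ∀ x ∈ D, x ^ p = 1 := by
        intro x hx
        obtain ⟨k, t, ht, rfl⟩ := hdec x hx
        rw [(hcommd k ht).mul_pow, hpowZ t ht, mul_one, ← zpow_natCast, zpow_comm, zpow_natCast, hdp,
          one_zpow]
      have hDcard : Nat.card D ≤ p ^ 2 := by
        have hle : D ≤ zpowers d ⊔ Z := fun x hx => by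
          obtain ⟨k, t, ht, rfl⟩ := hdec x hx
          exact mul_mem (mem_sup_left (zpow_mem (mem_zpowers d) k)) (mem_sup_right ht)
        refine (Nat.le_of_dvd Nat.card_pos (card_dvd_of_le hle)).trans ?_
        refine (card_sup_le (by rw [normalizer_eq_top Z]; exact le_top)).trans ?_
        rw [Nat.card_zpowers, hZ, sq]
        exact Nat.mul_le_mul_right p (Nat.le_of_dvd hp.out.pos (orderOf_dvd_of_pow_eq_one hdp))
      set M := ⁅D, (⊤ : Subgroup G)⁆ with hMdef
      have hMc : M ≤ center G := by
        have h1 := mul_card_le_of_lt hG (commutator_lt_of_ne_bot hG hD1)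
        rw [← hMdef] at h1
        obtain ⟨k, hk⟩ := exists_subgroup_card_eq_pow hG M
        have : k ≤ 1 := by
          rw [hk, ← pow_succ'] at h1
          have := (Nat.pow_le_pow_iff_right hp.out.one_lt).mp (h1.trans hDcard)
          omega
        interval_cases k
        · rw [eq_bot_of_card_eq M (by simpa using hk)]; exact bot_le
        · exact le_center_of_card_eq hG (by simpa using hk)
      have h3 : ∀ a b c : G, ⁅a, ⁅b, c⁆⁆ ∈ center G := fun a b c => by
        rw [← commutatorElement_inv]
        exact inv_mem (hMc (commutator_mem_commutator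
          (commutator_mem_commutator (mem_top b) (mem_top c)) (mem_top a)))
      have hexp : ∀ a b : G, ⁅a, b⁆ ^ p = 1 := fun a b =>
        hDexp _ (commutator_mem_commutator (mem_top a) (mem_top b))
      have hpowc : ∀ y : G, y ^ p ∈ center G := fun y => mem_center_iff.mpr fun x => by
        have hy := commute_of_mem_center (h3 y y x) y
        have := conj_pow_eq_three (x := x) hy (commute_of_mem_center (h3 y y x) ⁅y, x⁆) p
        obtain ⟨j, hj⟩ := hp.out.dvd_choose_self (k := 2) (by norm_num)
          (lt_of_le_of_ne hp.out.two_le (Ne.symm hp2))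
        rw [hexp y x, one_mul, hj, pow_mul, hexp y _, one_pow, one_mul] at this
        exact this.symm
      have hran : closure (Set.range fun x : G => x ^ p) ≤ center G :=
        (closure_le _).mpr (by rintro _ ⟨x, rfl⟩; exact hpowc x)
      have hcent : D ≤ center G :=
        ((commutator_le_frattini hG).trans (agemo_facts hG h).1.le).trans hran
      obtain ⟨a, b, hab⟩ := exists_generators hG h
      haveI := zpowers_normal_of_mem_center
        (hcent (commutator_mem_commutator (mem_top b) (mem_top a)))
      have hle : D ≤ zpowers ⁅b, a⁆ := by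
        rw [hD, _root_.commutator_def, commutator_le]
        exact fun x _ y _ => commutator_mem_of_generators hab (mem_zpowers _) x y
      exact isCyclic_of_injective (inclusion hle) (inclusion_injective _)
    · -- `D ^ p` contains a central subgroup of order `p`
      set N := zpowers (d ^ p) with hN
      haveI hNn : N.Normal := by
        refine ⟨fun x hx g => ?_⟩
        obtain ⟨j, rfl⟩ := mem_zpowers_iff.mp hx
        obtain ⟨k, t, ht, he⟩ := hdec _ (Normal.conj_mem inferInstance d hdD g)
        refine mem_zpowers_iff.mpr ⟨k * j, ?_⟩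
        rw [← conj_zpow, ← conj_pow, he, (hcommd k ht).mul_pow, hpowZ t ht, mul_one]
        simp only [← zpow_natCast, ← zpow_mul]
        congr 1; ring
      have hNne : N ≠ ⊥ := by simpa [hN] using hdp
      obtain ⟨T, hTn, hTN, -, hT⟩ := exists_normal_card_eq_prime hG hNne
      haveI := hTn
      have hTD : T ≤ D := hTN.trans (zpowers_le.mpr (pow_mem hdD p))
      have hlt' : Nat.card (G ⧸ T) < Nat.card G := by
        rw [card_eq_card_quotient_mul_card_subgroup T, hT]
        exact lt_mul_of_one_lt_right Nat.card_pos hp.out.one_lt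
      have hq' := ih (G ⧸ T) (hG.to_quotient T) (h.quotient T) (by omega)
      obtain ⟨c', hc'⟩ := (Subgroup.isCyclic_iff_exists_zpowers_eq_top _).mp hq'
      have hmap' : D.map (QuotientGroup.mk' T) = _root_.commutator (G ⧸ T) := by
        rw [hD, _root_.commutator_def, map_commutator,
          map_top_of_surjective _ (QuotientGroup.mk'_surjective T), _root_.commutator_def]
      obtain ⟨e, heD, rfl⟩ : ∃ e ∈ D, QuotientGroup.mk' T e = c' := by
        have : c' ∈ D.map (QuotientGroup.mk' T) := by rw [hmap', ← hc']; exact mem_zpowers c'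
        simpa using this
      obtain ⟨k, t, ht, he⟩ := hdec e heD
      have hep : e ^ p = (d ^ p) ^ k := by
        rw [he, (hcommd k ht).mul_pow, hpowZ t ht, mul_one, ← zpow_natCast, zpow_comm, zpow_natCast]
      have hTc := le_center_of_card_eq hG hT
      have hTe : T ≤ zpowers e := by
        obtain ⟨l, hl⟩ := mem_zpowers_iff.mp (show QuotientGroup.mk' T d ∈ zpowers (QuotientGroup.mk' T e) by
          rw [hc', ← hmap']; exact mem_map_of_mem _ hdD)
        rw [← map_zpow, QuotientGroup.mk'_apply, QuotientGroup.mk'_apply, QuotientGroup.eq] at hl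
        have hsp : ((e ^ l)⁻¹ * d) ^ p = 1 := by
          have := pow_card_eq_one' (G := T) (x := ⟨_, hl⟩)
          rw [hT] at this
          simpa using congrArg Subtype.val this
        have hdp' : d ^ p = (e ^ p) ^ l :=
          calc d ^ p = (e ^ l * ((e ^ l)⁻¹ * d)) ^ p := by rw [mul_inv_cancel_left]
            _ = (e ^ l) ^ p * ((e ^ l)⁻¹ * d) ^ p :=
                Commute.mul_pow (commute_of_mem_center (hTc hl) _) p
            _ = _ := by rw [hsp, mul_one, ← zpow_natCast, zpow_comm, zpow_natCast]
        refine hTN.trans (zpowers_le.mpr ?_)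
        rw [hdp']
        exact zpow_mem (pow_mem (mem_zpowers e) p) l
      have hle : D ≤ zpowers e := by
        intro x hx
        obtain ⟨j, hj⟩ := mem_zpowers_iff.mp (show QuotientGroup.mk' T x ∈ zpowers (QuotientGroup.mk' T e) by
          rw [hc', ← hmap']; exact mem_map_of_mem _ hx)
        rw [← map_zpow, QuotientGroup.mk'_apply, QuotientGroup.mk'_apply, QuotientGroup.eq] at hj
        have := mul_mem (zpow_mem (mem_zpowers e) j) (hTe hj)
        rwa [mul_inv_cancel_left] at this
      exact isCyclic_of_injective (inclusion hle) (inclusion_injective _)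

theorem isMetacyclic_of_thin (hp2 : p ≠ 2) {G : Type u} [Group G] [Finite G]
    (hG : IsPGroup p G) (h : Thin p G) : Cfsg.IsMetacyclic G := by
  classical
  have hD := isCyclic_commutator_of_thin hp2 _ G hG h le_rfl
  obtain ⟨c, hc⟩ := (Subgroup.isCyclic_iff_exists_zpowers_eq_top _).mp hD
  haveI : Nonempty {a : G // c ∈ zpowers a} := ⟨⟨c, mem_zpowers c⟩⟩
  obtain ⟨⟨a, hca⟩, hmax⟩ := Finite.exists_max (fun a : {a : G // c ∈ zpowers a} => orderOf a.1)
  haveI hN : (zpowers a).Normal :=
    Subgroup.Normal.of_commutator_le (G := G) (H := zpowers a) (by rw [← hc]; exact zpowers_le.mpr hca)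
  refine ⟨zpowers a, hN, inferInstance, ?_⟩
  by_cases htriv : Subsingleton G
  · exact isCyclic_of_surjective (QuotientGroup.mk' (zpowers a)) (QuotientGroup.mk'_surjective _)
  have haΦ : a ∉ frattini G := by
    intro ha
    rw [(agemo_facts hG h).1] at ha
    have key : ∀ z ∈ closure (Set.range fun x : G => x ^ p), ∃ w, w ^ p = z := by
      intro z hz
      induction hz using closure_induction with
      | mem x hx => exact hx
      | one => exact ⟨1, one_pow p⟩
      | mul x y _ _ hx hy =>
        obtain ⟨u, rfl⟩ := hx; obtain ⟨v, rfl⟩ := hy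
        exact exists_pow_eq_mul hp2 _ G hG hD le_rfl u v
      | inv x _ hx => obtain ⟨u, rfl⟩ := hx; exact ⟨u⁻¹, inv_pow u p⟩
    obtain ⟨w, hw⟩ := key a ha
    by_cases ha1 : a = 1
    · obtain ⟨g, hg⟩ := not_forall.mp fun hall : ∀ g : G, g = 1 =>
        htriv ⟨fun x y => (hall x).trans (hall y).symm⟩
      have hc1 : c = 1 := by simpa [ha1] using hca
      have := hmax ⟨g, hc1 ▸ one_mem _⟩
      simp only [ha1, orderOf_one] at this
      exact hg (orderOf_eq_one_iff.mp (le_antisymm this (orderOf_pos g)))
    · have hcw : c ∈ zpowers w := zpowers_le.mpr (hw ▸ pow_mem (mem_zpowers w) p) hca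
      have := hmax ⟨w, hcw⟩
      simp only at this
      obtain ⟨k, hk⟩ := IsPGroup.iff_orderOf.mp hG w
      rcases Nat.eq_zero_or_pos k with rfl | hk0
      · exact ha1 (by rw [← hw, show w = 1 from orderOf_eq_one_iff.mp (hk.trans (pow_zero p)), one_pow])
      rw [hk, ← hw, orderOf_pow' _ hp.out.ne_zero, hk,
        Nat.gcd_eq_right (dvd_pow_self p hk0.ne')] at this
      have hlt := Nat.div_lt_self (pow_pos hp.out.pos k) hp.out.one_lt
      omega
  obtain ⟨-, hi⟩ := agemo_facts hG h
  by_cases htop : zpowers a ⊔ frattini G = ⊤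
  · haveI := isCyclic_of_sup_frattini htop
    exact isCyclic_of_surjective (QuotientGroup.mk' (zpowers a)) (QuotientGroup.mk'_surjective _)
  obtain ⟨b, -, hb⟩ := SetLike.exists_of_lt (lt_top_iff_ne_top.mpr htop)
  have hlt : frattini G < zpowers a ⊔ frattini G :=
    lt_of_le_of_ne le_sup_right fun h' => haΦ (h' ▸ mem_sup_left (mem_zpowers a))
  have hgen : zpowers a ⊔ zpowers b = ⊤ := by
    refine eq_top_of_sup_frattini (eq_of_le_of_card_le le_top ?_)
    have hlt2 : zpowers a ⊔ frattini G < zpowers a ⊔ zpowers b ⊔ frattini G :=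
      lt_of_le_of_ne (sup_le_sup_right le_sup_left _) fun h' =>
        hb (h' ▸ mem_sup_left (mem_sup_right (mem_zpowers b)))
    rw [card_top, ← card_mul_index (frattini G)]
    calc Nat.card (frattini G) * (frattini G).index ≤ p * (p * Nat.card (frattini G)) := by
          calc _ ≤ Nat.card (frattini G) * p ^ 2 := Nat.mul_le_mul le_rfl hi
            _ = _ := by ring
      _ ≤ p * Nat.card (zpowers a ⊔ frattini G : Subgroup G) :=
          Nat.mul_le_mul le_rfl (mul_card_le_of_lt hG hlt)
      _ ≤ _ := mul_card_le_of_lt hG hlt2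
  refine (_root_.isCyclic_iff_exists_zpowers_eq_top).mpr ⟨QuotientGroup.mk' _ b, ?_⟩
  have := congrArg (Subgroup.map (QuotientGroup.mk' (zpowers a))) hgen
  rwa [Subgroup.map_sup, MonoidHom.map_zpowers, map_top_of_surjective _ (QuotientGroup.mk'_surjective _),
    MonoidHom.map_zpowers,
    show QuotientGroup.mk' (zpowers a) a = 1 from (QuotientGroup.eq_one_iff a).mpr (mem_zpowers a),
    zpowers_one_eq_bot, bot_sup_eq] at this

/-- Every commutator is central. -/
def ClassTwo (G : Type u) [Group G] : Prop := ∀ a b : G, ⁅a, b⁆ ∈ center G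

theorem classTwo_of_injective {G : Type u} [Group G] {H : Type u} [Group H] (f : H →* G)
    (hf : Function.Injective f) (h : ClassTwo G) : ClassTwo H := fun a b =>
  mem_center_iff.mpr fun g => hf (by
    rw [map_mul, map_mul, map_commutatorElement]
    exact mem_center_iff.mp (h (f a) (f b)) (f g))

theorem classTwo_of_surjective {G : Type u} [Group G] {H : Type u} [Group H] (f : H →* G)
    (hf : Function.Surjective f) (h : ClassTwo H) : ClassTwo G := by
  intro a b
  obtain ⟨a, rfl⟩ := hf a
  obtain ⟨b, rfl⟩ := hf b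
  refine mem_center_iff.mpr fun g => ?_
  obtain ⟨g, rfl⟩ := hf g
  rw [← map_commutatorElement, ← map_mul, ← map_mul, mem_center_iff.mp (h a b) g]

/-- Small index of the centre: class two. -/
theorem classTwo_of_center {G : Type u} [Group G] [Finite G] (hG : IsPGroup p G)
    (h : Nat.card G ≤ p ^ 2 * Nat.card (center G)) : ClassTwo G := by
  have hq : Nat.card (G ⧸ center G) ≤ p ^ 2 := by
    rw [card_eq_card_quotient_mul_card_subgroup (center G)] at h
    exact Nat.le_of_mul_le_mul_right h Nat.card_pos
  obtain ⟨k, hk⟩ := exists_card_eq_pow (hG.to_quotient (center G))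
  have hk2 : k ≤ 2 := (Nat.pow_le_pow_iff_right hp.out.one_lt).mp (hk ▸ hq)
  have hcomm : _root_.commutator G ≤ center G := by
    refine Subgroup.Normal.quotient_commutative_iff_commutator_le.mp ?_
    interval_cases k
    · haveI : Subsingleton (G ⧸ center G) := (Nat.card_eq_one_iff_unique.mp (by simpa using hk)).1
      exact ⟨⟨fun a b => Subsingleton.elim _ _⟩⟩
    · haveI : IsCyclic (G ⧸ center G) := isCyclic_of_prime_card (p := p) (by simpa using hk)
      exact IsCyclic.isMulCommutative
    · exact IsPGroup.isMulCommutative_of_card_eq_prime_sq hk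
  exact fun a b => hcomm (commutator_mem_commutator (mem_top a) (mem_top b))

theorem classTwo_of_card_le_cube {G : Type u} [Group G] [Finite G] (hG : IsPGroup p G)
    (h : Nat.card G ≤ p ^ 3) : ClassTwo G := by
  rcases subsingleton_or_nontrivial G with hs | hn
  · exact fun a b => by rw [Subsingleton.elim ⁅a, b⁆ 1]; exact one_mem _
  refine classTwo_of_center hG (h.trans ?_)
  rw [pow_succ]
  refine Nat.mul_le_mul_left _ ?_
  obtain ⟨k, hk⟩ := exists_subgroup_card_eq_pow hG (center G)
  haveI := hG.center_nontrivial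
  have h1 : 1 < Nat.card (center G) := Finite.one_lt_card
  rw [hk] at h1 ⊢
  exact Nat.le_self_pow (fun h0 => by simp [h0] at h1) p

/-- No exponent `p` subgroup of order above `p ^ 2`, subgroups of order `p ^ 4` have class two. -/
def Good (p : ℕ) (G : Type u) [Group G] : Prop :=
  SmallExponent p G ∧ ∀ H : Subgroup G, Nat.card H = p ^ 4 → ClassTwo H

theorem Good.subgroup {G : Type u} [Group G] (h : Good p G) (M : Subgroup G) : Good p M := by
  refine ⟨fun H hH => ?_, fun H hH => ?_⟩
  · rw [← card_map_of_injective (f := M.subtype) M.subtype_injective]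
    refine h.1 _ ?_
    rintro _ ⟨x, hx, rfl⟩
    rw [← map_pow, hH x hx, map_one]
  · refine classTwo_of_injective (H.equivMapOfInjective M.subtype M.subtype_injective).toMonoidHom
      (H.equivMapOfInjective M.subtype M.subtype_injective).injective (h.2 _ ?_)
    rw [card_map_of_injective M.subtype_injective, hH]

/-- The exponent condition passes to quotients by subgroups of order `p`. -/
theorem Good.smallExponent_quotient (hp2 : p ≠ 2) {G : Type u} [Group G] [Finite G]
    (hG : IsPGroup p G) (h : Good p G) {Z : Subgroup G} [Z.Normal] (hZ : Nat.card Z = p) :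
    SmallExponent p (G ⧸ Z) := by
  have hZc := le_center_of_card_eq hG hZ
  intro H hH
  by_contra hcon
  obtain ⟨k, hk⟩ := exists_subgroup_card_eq_pow (hG.to_quotient Z) H
  have h3 : p ^ 3 ≤ Nat.card H := by
    rw [hk] at hcon ⊢
    refine Nat.pow_le_pow_right hp.out.pos ?_
    by_contra h3
    exact hcon (Nat.pow_le_pow_right hp.out.pos (by omega))
  obtain ⟨L, hLH, hL⟩ := Sylow.exists_subgroup_le_card_pow_prime_of_le_card hp.out
    (hG.to_quotient Z) h3
  set E := L.comap (QuotientGroup.mk' Z)
  have hmemZ : ∀ e ∈ E, e ^ p ∈ Z := fun e he => by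
    rw [← QuotientGroup.eq_one_iff, QuotientGroup.mk_pow]
    exact hH _ (hLH he)
  have hE : Nat.card E = p ^ 4 := by
    have h2 := E.card_mul_index
    rw [index_comap_of_surjective _ (QuotientGroup.mk'_surjective Z),
      card_eq_card_quotient_mul_card_subgroup Z, hZ, ← L.card_mul_index, hL] at h2
    exact Nat.eq_of_mul_eq_mul_right (Nat.pos_of_ne_zero index_ne_zero_of_finite)
      (h2.trans (by ring))
  have hclass := h.2 E hE
  have hpowc : ∀ e : E, e ^ p ∈ center E := fun e => mem_center_iff.mpr fun g =>
    Subtype.ext (by simpa using mem_center_iff.mp (hZc (hmemZ e e.2)) g)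
  let f : E →* E := MonoidHom.mk' (fun e => e ^ p) fun x y =>
    mul_pow_classTwo hp.out hp2 hclass (hpowc y)
  have hker := h.1 (f.ker.map E.subtype) (by
    rintro _ ⟨y, hy, rfl⟩
    simpa [f] using congrArg Subtype.val (MonoidHom.mem_ker.mp hy))
  have hran : Nat.card f.range ≤ p := by
    rw [← hZ, ← card_map_of_injective E.subtype_injective]
    refine Nat.le_of_dvd Nat.card_pos (card_dvd_of_le ?_)
    rintro _ ⟨_, ⟨e, rfl⟩, rfl⟩
    simpa [f] using hmemZ e e.2
  rw [card_map_of_injective E.subtype_injective] at hker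
  have hh := f.ker.card_mul_index
  rw [index_ker, hE] at hh
  have h4 : p ^ 4 ≤ p ^ 2 * p := hh.symm.le.trans (Nat.mul_le_mul hker hran)
  rw [← pow_succ] at h4
  exact absurd ((Nat.pow_le_pow_iff_right hp.out.one_lt).mp h4) (by norm_num)

/-- A metacyclic group of order `p ^ 4`, `p` odd, has class two. -/
theorem classTwo_of_isMetacyclic (hp2 : p ≠ 2) {G : Type u} [Group G] [Finite G]
    (hc : Nat.card G = p ^ 4) (h : Cfsg.IsMetacyclic G) : ClassTwo G := by
  have hG : IsPGroup p G := IsPGroup.of_card hc
  obtain ⟨N, hNn, hN, hQ⟩ := h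
  obtain ⟨a, rfl⟩ := (Subgroup.isCyclic_iff_exists_zpowers_eq_top _).mp hN
  obtain ⟨q, hq⟩ := (_root_.isCyclic_iff_exists_zpowers_eq_top).mp hQ
  obtain ⟨b, rfl⟩ := QuotientGroup.mk'_surjective _ q
  have hgen : closure ({a, b} : Set G) = ⊤ := by
    refine eq_top_iff.mpr fun g _ => ?_
    obtain ⟨k, hk⟩ := mem_zpowers_iff.mp
      (show QuotientGroup.mk' (zpowers a) g ∈ zpowers (QuotientGroup.mk' (zpowers a) b) by
        rw [hq]; exact mem_top _)
    rw [← map_zpow, QuotientGroup.mk'_apply, QuotientGroup.mk'_apply, QuotientGroup.eq] at hk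
    have := mul_mem (zpow_mem (subset_closure (show b ∈ ({a, b} : Set G) by simp)) k)
      ((zpowers_le.mpr (subset_closure (show a ∈ ({a, b} : Set G) by simp))) hk)
    rwa [mul_inv_cancel_left] at this
  have hconj : b * a * b⁻¹ ∈ zpowers a := hNn.conj_mem a (mem_zpowers a) b
  obtain ⟨r, hr⟩ := mem_zpowers_iff.mp hconj
  obtain ⟨m, hm⟩ := IsPGroup.iff_orderOf.mp hG a
  -- the commutator is central
  suffices hcen : ⁅b, a⁆ ∈ center G by
    intro x y
    haveI := PGroup.zpowers_normal_of_mem_center hcen
    have : ⁅x, y⁆ ∈ zpowers ⁅b, a⁆ := commutator_mem_of_generators hgen (mem_zpowers _) x y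
    exact zpowers_le.mpr hcen this
  rcases Nat.eq_zero_or_pos m with rfl | hm0
  · rw [show a = 1 from orderOf_eq_one_iff.mp (hm.trans (pow_zero p)), commutatorElement_one_right]
    exact one_mem _
  have hc' : ⁅b, a⁆ = a ^ (r - 1) := by
    rw [commutatorElement_def, ← hr, zpow_sub, zpow_one]
  -- `r ≡ 1 [ZMOD p]`, and `b ^ p` centralizes `a` when `m = 3`
  have hpows : ∀ (k : ℕ), b ^ p ^ k = 1 → ((p ^ m : ℕ) : ℤ) ∣ r ^ p ^ k - 1 := fun k hk => by
    have h1 := PGroup.conj_pow_of_conj_eq hr.symm (p ^ k)
    rw [hk, one_mul, inv_one, mul_one] at h1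
    exact (PGroup.zpow_eq_zpow_iff_dvd hm).mp (by rw [zpow_one]; exact h1.symm)
  obtain ⟨l, hl⟩ := hG b
  have hr1 : (p : ℤ) ∣ r - 1 := by
    have h1 : (p : ℤ) ∣ r ^ p ^ l - 1 :=
      dvd_trans (by exact_mod_cast dvd_pow_self p hm0.ne') (hpows l hl)
    rw [← ZMod.intCast_zmod_eq_zero_iff_dvd] at h1 ⊢
    push_cast at h1 ⊢
    rwa [ZMod.pow_card_pow] at h1
  have key : Commute b ⁅b, a⁆ := by
    rcases le_or_gt m 2 with hm2 | hm2
    · have h3 : b * a ^ (r - 1) * b⁻¹ = a ^ (r - 1) := by
        rw [PGroup.conj_zpow_of_conj_eq hr.symm, PGroup.zpow_eq_zpow_iff_dvd hm]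
        have e : r * (r - 1) - (r - 1) = (r - 1) * (r - 1) := by ring
        rw [e]
        refine dvd_trans ?_ (mul_dvd_mul hr1 hr1)
        rw [← sq]
        exact_mod_cast pow_dvd_pow p hm2
      rw [hc']
      exact mul_inv_eq_iff_eq_mul.mp h3
    · have hbp : Commute (b ^ p) a := by
        have hidx : (zpowers a).index ∣ p := by
          have := (zpowers a).card_mul_index
          rw [Nat.card_zpowers, hm, hc] at this
          obtain ⟨j, rfl⟩ : ∃ j, m = 3 + j := ⟨m - 3, by omega⟩
          refine ⟨p ^ j, Nat.eq_of_mul_eq_mul_left (pow_pos hp.out.pos 3) ?_⟩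
          rw [pow_add] at this
          calc p ^ 3 * p = p ^ 4 := by ring
            _ = _ := by rw [← this]; ring
        have hmem : b ^ p ∈ zpowers a := by
          obtain ⟨j, hj⟩ := hidx
          rw [hj, pow_mul]
          exact pow_mem ((zpowers a).pow_index_mem b) j
        obtain ⟨i, hi⟩ := mem_zpowers_iff.mp hmem
        exact hi ▸ (Commute.refl a).zpow_left i
      exact (PGroup.odd_local hp.out hp2 hm hconj hbp).2.2.1
  refine mem_center_iff.mpr fun g => ?_
  have : g ∈ centralizer ({⁅b, a⁆} : Set G) := by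
    have hle : closure ({a, b} : Set G) ≤ centralizer ({⁅b, a⁆} : Set G) := by
      refine (closure_le _).mpr ?_
      rintro x (rfl | rfl)
      · exact mem_centralizer_singleton_iff.mpr
          (hc' ▸ ((Commute.refl x).zpow_right _).eq)
      · exact mem_centralizer_singleton_iff.mpr key.eq
    exact hle (hgen ▸ mem_top g)
  exact mem_centralizer_singleton_iff.mp this

/-- The order `p ^ 5` step. -/
theorem classTwo_quotient_five (hp2 : p ≠ 2) {G : Type u} [Group G] [Finite G]
    (hG : IsPGroup p G) (h : Good p G) (hcard : Nat.card G = p ^ 5) {T : Subgroup G} [T.Normal]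
    (hTi : T.index = p ^ 3) (hpow : ∀ x : G, x ^ p ∈ T)
    (hM : ∀ M : Subgroup G, IsCoatom M → T ≤ Subgroup.closure ((fun x => x ^ p) '' (M : Set G)))
    {Z : Subgroup G} [Z.Normal] (hZ : Nat.card Z = p) : ClassTwo (G ⧸ Z) := by
  have hT2 : Nat.card T = p ^ 2 := by
    have := T.card_mul_index
    rw [hTi, hcard, show p ^ 5 = p ^ 2 * p ^ 3 by ring] at this
    exact Nat.eq_of_mul_eq_mul_right (pow_pos hp.out.pos 3) this
  haveI := hG.isNilpotent
  have hnc : ¬ IsCyclic G := fun hc => by
    have h1 : ∀ q : G ⧸ T, q ^ p = 1 := fun q => QuotientGroup.induction_on q fun x => by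
      rw [← QuotientGroup.mk_pow]; exact (QuotientGroup.eq_one_iff _).mpr (hpow x)
    haveI : IsCyclic (G ⧸ T) :=
      isCyclic_of_surjective (QuotientGroup.mk' T) (QuotientGroup.mk'_surjective T)
    have h2 := IsCyclic.exponent_eq_card (α := G ⧸ T)
    rw [← index_eq_card, hTi] at h2
    have := h2 ▸ Monoid.exponent_dvd_of_forall_pow_eq_one h1
    exact absurd ((Nat.pow_le_pow_iff_right hp.out.one_lt).mp
      ((Nat.le_of_dvd hp.out.pos this).trans_eq (pow_one p).symm)) (by norm_num)
  -- `T` is central
  have hTc : T ≤ center G := by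
    intro t ht
    refine mem_center_iff.mpr fun n => ?_
    obtain ⟨M, hMc, hnM⟩ : ∃ M : Subgroup G, IsCoatom M ∧ zpowers n ≤ M :=
      (eq_top_or_exists_le_coatom (zpowers n)).resolve_left fun htop =>
        hnc ((_root_.isCyclic_iff_exists_zpowers_eq_top).mpr ⟨n, htop⟩)
    haveI := PGroup.isCoatom_normal hG hMc
    have hMp := PGroup.isCoatom_index hG hMc
    have hM4 : Nat.card M = p ^ 4 := by
      have := M.card_mul_index
      rw [hMp, hcard, pow_succ] at this
      exact Nat.eq_of_mul_eq_mul_right hp.out.pos this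
    have hTM : T ≤ M := (hM M hMc).trans ((closure_le _).mpr (by
      rintro _ ⟨x, hx, rfl⟩; exact pow_mem hx p))
    have hcM : ∀ a ∈ M, ∀ b ∈ M, ⁅a, b⁆ ∈ T := by
      have hidx : (T.subgroupOf M).index = p ^ 2 := by
        have := (T.subgroupOf M).card_mul_index
        rw [Nat.card_congr (subgroupOfEquivOfLe hTM).toEquiv, hT2, hM4,
          show p ^ 4 = p ^ 2 * p ^ 2 by ring] at this
        exact Nat.eq_of_mul_eq_mul_left (pow_pos hp.out.pos 2) this
      have hle : _root_.commutator M ≤ T.subgroupOf M :=
        Subgroup.Normal.quotient_commutative_iff_commutator_le.mp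
          (IsPGroup.isMulCommutative_of_card_eq_prime_sq (by rw [← index_eq_card, hidx]))
      intro a ha b hb
      have := hle (commutator_mem_commutator (mem_top (⟨a, ha⟩ : M)) (mem_top (⟨b, hb⟩ : M)))
      exact mem_subgroupOf.mp this
    have hcc := h.2 M hM4
    have hcent : ∀ a ∈ M, ∀ b ∈ M, Commute (a ^ p) b := by
      intro a ha b hb
      have h1 : Commute a ⁅a, b⁆ :=
        congrArg Subtype.val (mem_center_iff.mp (hcc ⟨a, ha⟩ ⟨b, hb⟩) ⟨a, ha⟩)
      rw [← commutatorElement_eq_one_iff_commute, commutator_pow_left h1]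
      by_contra hne
      have hgen : zpowers ⁅a, b⁆ = T := by
        refine eq_of_le_of_card_le (zpowers_le.mpr (hcM a ha b hb)) ?_
        obtain ⟨k, hk⟩ := IsPGroup.iff_orderOf.mp hG ⁅a, b⁆
        rw [Nat.card_zpowers, hT2, hk]
        refine Nat.pow_le_pow_right hp.out.pos ?_
        by_contra hk2
        exact hne (orderOf_dvd_iff_pow_eq_one.mp
          ((dvd_of_eq hk).trans ((pow_dvd_pow p (show k ≤ 1 by omega)).trans (pow_one p).dvd)))
      have hac : Commute (a ^ p) b := by
        obtain ⟨j, hj⟩ := mem_zpowers_iff.mp (hgen.ge (hpow a))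
        rw [← hj]
        exact (show Commute b ⁅a, b⁆ from
          congrArg Subtype.val (mem_center_iff.mp (hcc ⟨a, ha⟩ ⟨b, hb⟩) ⟨b, hb⟩)).symm.zpow_left j
      exact hne (by rw [← commutator_pow_left h1]; exact commutatorElement_eq_one_iff_commute.mpr hac)
    have hle : T ≤ centralizer ({n} : Set G) := by
      refine (hM M hMc).trans ((closure_le _).mpr ?_)
      rintro _ ⟨a, ha, rfl⟩
      exact mem_centralizer_singleton_iff.mpr (hcent a ha n (hnM (mem_zpowers n))).eq
    exact (mem_centralizer_singleton_iff.mp (hle ht)).symm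
  -- commutators are central modulo `T`, and have order `p`
  have hQ : ClassTwo (G ⧸ T) := classTwo_of_card_le_cube (hG.to_quotient T)
    (by rw [← index_eq_card, hTi])
  have hDT : ∀ c ∈ _root_.commutator G, ∀ g : G, ⁅g, c⁆ ∈ T := by
    intro c hc g
    have hcen : QuotientGroup.mk' T c ∈ center (G ⧸ T) := by
      have hle : _root_.commutator G ≤ (center (G ⧸ T)).comap (QuotientGroup.mk' T) := by
        rw [_root_.commutator_def, commutator_le]
        intro a _ b _
        rw [mem_comap, map_commutatorElement]; exact hQ _ _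
      exact hle hc
    rw [← QuotientGroup.eq_one_iff, ← QuotientGroup.mk'_apply, map_commutatorElement,
      commutatorElement_eq_one_iff_mul_comm]
    exact mem_center_iff.mp hcen _
  have hcp : ∀ x y : G, ⁅y, x⁆ ^ p = 1 := by
    intro x y
    have he : ⁅y, ⁅y, x⁆⁆ ∈ center G :=
      hTc (hDT _ (commutator_mem_commutator (mem_top y) (mem_top x)) y)
    have := conj_pow_eq_three (x := x) (commute_of_mem_center he y)
      (commute_of_mem_center he ⁅y, x⁆) p
    obtain ⟨j, hj⟩ := hp.out.dvd_choose_self (k := 2) (by norm_num)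
      (lt_of_le_of_ne hp.out.two_le (Ne.symm hp2))
    have hep : ⁅y, ⁅y, x⁆⁆ ^ p = 1 := by
      rw [← commutator_pow_left (commute_of_mem_center he y)]
      exact commutatorElement_eq_one_iff_commute.mpr
        (commute_of_mem_center (hTc (hpow y)) _).symm
    rw [hj, pow_mul, hep, one_pow, mul_one, (commute_of_mem_center (hTc (hpow y)) x).symm.eq,
      mul_assoc] at this
    exact right_eq_mul.mp this
  have hD : ∀ c ∈ _root_.commutator G, c ^ p = 1 := by
    intro c hc
    rw [_root_.commutator_def] at hc
    induction hc using closure_induction with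
    | mem z hz => obtain ⟨a, -, b, -, rfl⟩ := hz; exact hcp b a
    | one => exact one_pow p
    | mul u v hu _ hu1 hv1 =>
      have hvu : ⁅v, u⁆ ∈ center G :=
        hTc (hDT u (by rw [_root_.commutator_def]; exact hu) v)
      rw [PGroup.mul_pow_prime_eq hp.out hp2 (commute_of_mem_center hvu u)
        (commute_of_mem_center hvu v) (hcp u v), hu1, hv1, one_mul]
    | inv u _ hu1 => rw [inv_pow, hu1, inv_one]
  have hZc := le_center_of_card_eq hG hZ
  have hsup : Nat.card (_root_.commutator G ⊔ Z : Subgroup G) ≤ p ^ 2 := by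
    refine h.1 _ fun x hx => ?_
    obtain ⟨c, hc, z, hz, rfl⟩ := mem_sup_of_normal_right.mp hx
    have hzp : z ^ p = 1 := by
      have := pow_card_eq_one' (G := Z) (x := ⟨z, hz⟩)
      rw [hZ] at this
      simpa using congrArg Subtype.val this
    rw [Commute.mul_pow (commute_of_mem_center (hZc hz) c), hD c hc, hzp, one_mul]
  set D' := (_root_.commutator G ⊔ Z).map (QuotientGroup.mk' Z) with hD'
  have hD'c : Nat.card D' ≤ p := by
    have hh := ((QuotientGroup.mk' Z).domRestrict (_root_.commutator G ⊔ Z)).ker.card_mul_index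
    rw [index_ker, MonoidHom.domRestrict_range] at hh
    have hk : Nat.card ((QuotientGroup.mk' Z).domRestrict (_root_.commutator G ⊔ Z)).ker = p := by
      rw [MonoidHom.ker_domRestrict, QuotientGroup.ker_mk',
        Nat.card_congr (subgroupOfEquivOfLe le_sup_right).toEquiv, hZ]
    rw [hk] at hh
    exact Nat.le_of_mul_le_mul_left (hh.le.trans (hsup.trans_eq (sq p))) hp.out.pos
  haveI : D'.Normal := Subgroup.Normal.map inferInstance _ (QuotientGroup.mk'_surjective Z)
  have hD'center : D' ≤ center (G ⧸ Z) := by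
    obtain ⟨k, hk⟩ := exists_subgroup_card_eq_pow (hG.to_quotient Z) D'
    have : k ≤ 1 := (Nat.pow_le_pow_iff_right hp.out.one_lt).mp
      ((hk ▸ hD'c).trans_eq (pow_one p).symm)
    interval_cases k
    · rw [eq_bot_of_card_eq D' (by simpa using hk)]; exact bot_le
    · exact le_center_of_card_eq (hG.to_quotient Z) (by simpa using hk)
  intro a b
  obtain ⟨a, rfl⟩ := QuotientGroup.mk'_surjective Z a
  obtain ⟨b, rfl⟩ := QuotientGroup.mk'_surjective Z b
  rw [← map_commutatorElement]
  exact hD'center (mem_map_of_mem _ (mem_sup_left (commutator_mem_commutator (mem_top a) (mem_top b))))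

theorem thin_of_good (hp2 : p ≠ 2) : ∀ (n : ℕ) (G : Type u) [Group G] [Finite G],
    IsPGroup p G → Good p G → Nat.card G ≤ n → Thin p G := by
  intro n
  induction n with
  | zero => intro G _ _ _ _ hn; exact absurd hn (not_le.mpr Nat.card_pos)
  | succ n ih =>
    intro G _ _ hG h hn S hS hSpow
    set T := closure (Set.range fun x : G => x ^ p) with hTdef
    haveI : T.Normal := ⟨fun z hz g => by
      induction hz using closure_induction with
      | mem x hx => obtain ⟨y, rfl⟩ := hx; exact subset_closure ⟨g * y * g⁻¹, conj_pow⟩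
      | one => simp
      | mul x y _ _ hx hy => simpa [mul_assoc] using mul_mem hx hy
      | inv x _ hx => simpa [mul_assoc] using inv_mem hx⟩
    have hpow : ∀ x : G, x ^ p ∈ T := fun x => subset_closure ⟨x, rfl⟩
    suffices key : T.index ≤ p ^ 2 from
      (Nat.le_of_dvd (Nat.pos_of_ne_zero index_ne_zero_of_finite)
        (index_dvd_of_le ((closure_le S).mpr (by rintro _ ⟨x, rfl⟩; exact hSpow x)))).trans key
    by_contra hcon
    obtain ⟨k, hk⟩ := IsPGroup.index hG T
    have hk3 : 3 ≤ k := by
      by_contra h'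
      exact hcon (hk ▸ Nat.pow_le_pow_right hp.out.pos (by omega))
    by_cases hT1 : T = ⊥
    · refine hcon ?_
      have := h.1 ⊤ fun x _ => by rw [← mem_bot, ← hT1]; exact hpow x
      rw [card_top] at this
      exact (Nat.le_of_dvd Nat.card_pos T.index_dvd_card).trans this
    -- maximal subgroups are thin
    have hmax : ∀ M : Subgroup G, IsCoatom M → T ≤ Subgroup.closure ((fun x => x ^ p) '' (M : Set G)) ∧
        k = 3 := by
      intro M hMc
      haveI := PGroup.isCoatom_normal hG hMc
      have hMp := PGroup.isCoatom_index hG hMc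
      have hlt : Nat.card M < Nat.card G := by
        rw [← M.card_mul_index, hMp]
        exact lt_mul_of_one_lt_right Nat.card_pos hp.out.one_lt
      have hMthin := ih M (hG.to_subgroup M) (h.subgroup M) (by omega)
      set U := closure (Set.range fun x : M => x ^ p) with hU
      have hUn : U.Normal := ⟨fun z hz g => by
        induction hz using closure_induction with
        | mem x hx => obtain ⟨y, rfl⟩ := hx; exact subset_closure ⟨g * y * g⁻¹, conj_pow⟩
        | one => simp
        | mul x y _ _ hx hy => simpa [mul_assoc] using mul_mem hx hy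
        | inv x _ hx => simpa [mul_assoc] using inv_mem hx⟩
      have hUi := hMthin U hUn fun x => subset_closure ⟨x, rfl⟩
      have hUmap : U.map M.subtype = Subgroup.closure ((fun x => x ^ p) '' (M : Set G)) := by
        rw [hU, MonoidHom.map_closure]
        congr 1
        ext z
        simp only [Set.mem_image, Set.mem_range, SetLike.mem_coe]
        constructor
        · rintro ⟨_, ⟨x, rfl⟩, rfl⟩; exact ⟨x, x.2, rfl⟩
        · rintro ⟨x, hx, rfl⟩; exact ⟨_, ⟨⟨x, hx⟩, rfl⟩, rfl⟩
      have hUT : U.map M.subtype ≤ T := by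
        rw [hUmap]
        exact (closure_le _).mpr (by rintro _ ⟨x, -, rfl⟩; exact hpow x)
      have hidx : (U.map M.subtype).index ≤ p ^ 3 := by
        rw [index_map_subtype, hMp, pow_succ p 2]
        exact Nat.mul_le_mul hUi le_rfl
      have hle := Nat.le_of_dvd (Nat.pos_of_ne_zero index_ne_zero_of_finite) (index_dvd_of_le hUT)
      have hk' : k = 3 := le_antisymm
        ((Nat.pow_le_pow_iff_right hp.out.one_lt).mp (hk ▸ hle.trans hidx)) hk3
      refine ⟨hUmap ▸ (eq_of_le_of_card_le hUT ?_).ge, hk'⟩
      rw [hk, hk'] at hle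
      have hi : (U.map M.subtype).index = p ^ 3 := le_antisymm hidx hle
      have h1 := T.card_mul_index
      have h2 := (U.map M.subtype).card_mul_index
      rw [hk, hk'] at h1
      rw [hi] at h2
      exact le_of_eq (Nat.eq_of_mul_eq_mul_right (pow_pos hp.out.pos 3) (h1.trans h2.symm))
    obtain ⟨M, hMc⟩ : ∃ M : Subgroup G, IsCoatom M :=
      ((eq_top_or_exists_le_coatom (⊥ : Subgroup G)).resolve_left fun he => by
        refine hT1 (eq_bot_iff.mpr (he ▸ le_top))).imp fun M hM => hM.1
    obtain ⟨-, hk'⟩ := hmax M hMc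
    subst hk'
    obtain ⟨N, hN⟩ := exists_card_eq_pow hG
    obtain ⟨j, hj⟩ := exists_subgroup_card_eq_pow hG T
    have hNj : N = j + 3 := by
      have := T.card_mul_index
      rw [hj, hk, hN, ← pow_add] at this
      exact (Nat.pow_right_injective hp.out.two_le this).symm
    subst hNj
    rcases Nat.lt_or_ge j 2 with hj2 | hj2
    · -- order `p ^ 4`
      obtain rfl : j = 1 := by
        rcases Nat.eq_zero_or_pos j with rfl | h'
        · exact absurd (eq_bot_of_card_eq T (by simpa using hj)) hT1
        · omega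
      have hTc : T ≤ center G := le_center_of_card_eq hG (by simpa using hj)
      have hclass : ClassTwo G := classTwo_of_injective
        (topEquiv (G := G)).symm.toMonoidHom (MulEquiv.injective _) (h.2 ⊤ (by rw [card_top, hN]))
      let f : G →* G := MonoidHom.mk' (fun e => e ^ p) fun x y =>
        mul_pow_classTwo hp.out hp2 hclass (hTc (hpow y))
      have hker := h.1 f.ker fun x hx => MonoidHom.mem_ker.mp hx
      have hran : Nat.card f.range ≤ p := by
        refine (Nat.le_of_dvd Nat.card_pos (card_dvd_of_le ?_)).trans_eq (hj.trans (pow_one p))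
        rintro _ ⟨e, rfl⟩
        exact hpow e
      have hh := f.ker.card_mul_index
      rw [index_ker, hN] at hh
      have h4 := hh.symm.le.trans (Nat.mul_le_mul hker hran)
      rw [← pow_succ] at h4
      exact absurd ((Nat.pow_le_pow_iff_right hp.out.one_lt).mp h4) (by norm_num)
    obtain ⟨Z, hZn, hZT, -, hZ⟩ := exists_normal_card_eq_prime hG hT1
    haveI := hZn
    have hlt : Nat.card (G ⧸ Z) < Nat.card G := by
      rw [card_eq_card_quotient_mul_card_subgroup Z, hZ]
      exact lt_mul_of_one_lt_right Nat.card_pos hp.out.one_lt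
    have hgood : Good p (G ⧸ Z) := by
      refine ⟨h.smallExponent_quotient hp2 hG hZ, fun W hW => ?_⟩
      rcases hj2.eq_or_lt with h2 | h2
      · exact classTwo_of_injective W.subtype W.subtype_injective
          (classTwo_quotient_five hp2 hG h (by rw [hN, ← h2]) hk hpow (fun M hM => (hmax M hM).1) hZ)
      set H := W.comap (QuotientGroup.mk' Z)
      have hH : Nat.card H = p ^ 5 := by
        have h2' := H.card_mul_index
        rw [index_comap_of_surjective _ (QuotientGroup.mk'_surjective Z),
          card_eq_card_quotient_mul_card_subgroup Z, hZ, ← W.card_mul_index, hW] at h2'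
        exact Nat.eq_of_mul_eq_mul_right (Nat.pos_of_ne_zero index_ne_zero_of_finite)
          (h2'.trans (by ring))
      have hHlt : Nat.card H < Nat.card G := by
        rw [hH, hN]; exact Nat.pow_lt_pow_right hp.out.one_lt (by omega)
      have hHthin := ih H (hG.to_subgroup H) (h.subgroup H) (by omega)
      let f : H →* W := ((QuotientGroup.mk' Z).domRestrict H).codRestrict W fun x => x.2
      have hfs : Function.Surjective f := by
        rintro ⟨w, hw⟩
        obtain ⟨g, rfl⟩ := QuotientGroup.mk'_surjective Z w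
        exact ⟨⟨g, hw⟩, rfl⟩
      have hWthin : Thin p W := by
        intro S hS hpowS
        rw [← index_comap_of_surjective S hfs]
        exact hHthin _ (hS.comap _) fun x => by rw [mem_comap, map_pow]; exact hpowS _
      exact classTwo_of_isMetacyclic hp2 hW
        (isMetacyclic_of_thin hp2 (IsPGroup.of_card hW) hWthin)
    have hquot := ih (G ⧸ Z) (hG.to_quotient Z) hgood (by omega) (T.map (QuotientGroup.mk' Z))
      (Subgroup.Normal.map inferInstance _ (QuotientGroup.mk'_surjective Z)) fun q => by
        obtain ⟨x, rfl⟩ := QuotientGroup.mk'_surjective Z q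
        rw [← map_pow]; exact mem_map_of_mem _ (hpow x)
    rw [index_map_eq _ (QuotientGroup.mk'_surjective Z) (by rw [QuotientGroup.ker_mk']; exact hZT)]
      at hquot
    exact hcon hquot

end Cfsg.Agent.RankTwoOdd
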