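/-
Rank two `p`-groups (`p` odd) with an exponent `p` subgroup `E` of order `p ^ 3`.

* `Setup` : `E` normal, `A` normal of order `p ^ 2` in `E`; `C(E)` cyclic and `G` is determined
  by the map `k ↦ ⁅k, x⁆` on `C(A)`
* `normal_or_maximalClass` : otherwise there is a self-centralizing subgroup of order `p ^ 2`
-/
import Cfsg.Agent.Lib.RankTwoOdd.Thin
import Cfsg.Agent.Lib.PGroup.MaximalClass
import Cfsg.Agent.Lib.PGroup.NormalAbelian

set_option linter.style.haveILetI false
set_option linter.unusedSectionVars false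

open Subgroup
open scoped commutatorElement Pointwise

universe u

namespace Cfsg.Agent.RankTwoOdd

open Cfsg.Agent.PGroup (exists_subgroup_card_eq_pow eq_of_le_of_card_le mul_card_le_of_lt
  exists_normal_card_eq_prime exists_normal_le_card le_center_of_card_eq commute_of_mem_center
  eq_sup_zpowers_of_card card_sup_le exists_mem_normalizer_not_mem unique_order_p_cases)

variable {p : ℕ} [hp : Fact p.Prime] {G : Type u} [Group G] [Finite G]

/-- An element of order `p` centralizing an elementary abelian subgroup of order `p ^ 2` lies in it. -/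
theorem mem_of_commute (hrk : Cfsg.PRankLE p 2 G) {A : Subgroup G}
    (hAc : ∀ a ∈ A, ∀ b ∈ A, a * b = b * a) (hAe : ∀ a ∈ A, a ^ p = 1)
    (hA : p ^ 2 ≤ Nat.card A) {x : G} (hxp : x ^ p = 1) (hx : ∀ a ∈ A, a * x = x * a) : x ∈ A := by
  have hgen : ∀ b ∈ closure ((A : Set G) ∪ {x}), ∀ c ∈ closure ((A : Set G) ∪ {x}),
      b * c = c * b := by
    have h1 : (A : Set G) ∪ {x} ⊆ centralizer ((A : Set G) ∪ {x}) := by
      rintro u (hu | rfl) <;> refine mem_centralizer_iff.mpr ?_ <;> rintro v (hv | rfl)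
      exacts [hAc v hv u hu, (hx u hu).symm, hx v hv, rfl]
    have h2 : closure ((A : Set G) ∪ {x}) ≤ centralizer ((A : Set G) ∪ {x}) := (closure_le _).mpr h1
    have h3 : closure ((A : Set G) ∪ {x}) ≤
        centralizer ((closure ((A : Set G) ∪ {x}) : Subgroup G) : Set G) :=
      (closure_le _).mpr fun u hu => mem_centralizer_iff.mpr fun v hv =>
        (mem_centralizer_iff.mp (h2 hv) u hu).symm
    exact fun b hb c hc => mem_centralizer_iff.mp (h3 hc) b hb
  set B := closure ((A : Set G) ∪ {x})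
  have hBe : ∀ b ∈ B, b ^ p = 1 := by
    intro b hb
    induction hb using closure_induction with
    | mem u hu =>
      rcases hu with hu | rfl
      exacts [hAe u hu, hxp]
    | one => exact one_pow p
    | mul u v hu hv h1 h2 => rw [Commute.mul_pow (hgen u hu v hv), h1, h2, one_mul]
    | inv u _ h1 => rw [inv_pow, h1, inv_one]
  have hcard := hrk B ⟨⟨fun u v => Subtype.ext (hgen u u.2 v v.2)⟩⟩ hBe
  have hAB : A ≤ B := fun a ha => subset_closure (Or.inl ha)
  rw [eq_of_le_of_card_le hAB (hcard.trans hA)]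
  exact subset_closure (Or.inr rfl)

/-- Exponent `p`, order `p ^ 3`, not commutative. -/
structure Heis (p : ℕ) (E : Subgroup G) : Prop where
  card : Nat.card E = p ^ 3
  exp : ∀ a ∈ E, a ^ p = 1
  nc : ¬ ∀ a ∈ E, ∀ b ∈ E, a * b = b * a

/-- The centre of `E`. -/
abbrev zE (E : Subgroup G) : Subgroup G := E ⊓ centralizer (E : Set G)

theorem Heis.card_z (hG : IsPGroup p G) {E : Subgroup G} (h : Heis p E) :
    Nat.card (zE E) = p := by
  have hmap : (center E).map E.subtype = zE E := by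
    ext g
    constructor
    · rintro ⟨e, he, rfl⟩
      exact ⟨e.2, mem_centralizer_iff.mpr fun a ha =>
        congrArg Subtype.val (mem_center_iff.mp he ⟨a, ha⟩)⟩
    · rintro ⟨hg, hc⟩
      exact ⟨⟨g, hg⟩, mem_center_iff.mpr fun a => Subtype.ext (mem_centralizer_iff.mp hc a a.2), rfl⟩
  rw [← hmap, card_map_of_injective E.subtype_injective]
  obtain ⟨k, hk, hkc⟩ := IsPGroup.card_center_eq_prime_pow h.card (by norm_num)
  rcases Nat.lt_or_ge k 2 with hk2 | hk2
  · rw [hkc, show k = 1 by omega, pow_one]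
  exfalso
  have hq : Nat.card (E ⧸ center E) ≤ p := by
    have := card_eq_card_quotient_mul_card_subgroup (center E)
    rw [h.card] at this
    by_contra hcon
    have : p ^ 3 < p ^ 3 :=
      calc p ^ 3 = p * p ^ 2 := by ring
        _ ≤ p * Nat.card (center E) := Nat.mul_le_mul_left _ (hkc ▸ Nat.pow_le_pow_right hp.out.pos hk2)
        _ < Nat.card (E ⧸ center E) * Nat.card (center E) :=
            Nat.mul_lt_mul_of_pos_right (not_le.mp hcon) Nat.card_pos
        _ = p ^ 3 := this.symm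
    exact lt_irrefl _ this
  obtain ⟨l, hl⟩ := PGroup.exists_card_eq_pow ((IsPGroup.of_card h.card).to_quotient (center E))
  have hl1 : l ≤ 1 := (Nat.pow_le_pow_iff_right hp.out.one_lt).mp (hl ▸ hq.trans_eq (pow_one p).symm)
  haveI : IsCyclic (E ⧸ center E) := by
    interval_cases l
    · haveI : Subsingleton (E ⧸ center E) := (Nat.card_eq_one_iff_unique.mp (by simpa using hl)).1
      exact isCyclic_of_subsingleton
    · exact isCyclic_of_prime_card (p := p) (by simpa using hl)
  refine h.nc fun a ha b hb => congrArg Subtype.val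
    (commutative_of_cyclic_center_quotient (QuotientGroup.mk' (center E))
      (by rw [QuotientGroup.ker_mk']) (⟨a, ha⟩ : E) ⟨b, hb⟩)

theorem Heis.commutator_mem_z (hG : IsPGroup p G) {E : Subgroup G} (h : Heis p E) {a b : G}
    (ha : a ∈ E) (hb : b ∈ E) : ⁅a, b⁆ ∈ zE E := by
  have hc : ClassTwo E := classTwo_of_card_le_cube (hG.to_subgroup E) h.card.le
  refine ⟨E.mul_mem (E.mul_mem (E.mul_mem ha hb) (E.inv_mem ha)) (E.inv_mem hb),
    mem_centralizer_iff.mpr fun g hg => ?_⟩
  exact congrArg Subtype.val (mem_center_iff.mp (hc ⟨a, ha⟩ ⟨b, hb⟩) ⟨g, hg⟩)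

/-- Elements of order `p` centralizing `E` lie in `E`; hence the centralizer is cyclic. -/
theorem Heis.mem_z_of_pow (hG : IsPGroup p G) (hrk : Cfsg.PRankLE p 2 G) {E : Subgroup G}
    (h : Heis p E) {x : G} (hx : x ∈ centralizer (E : Set G)) (hxp : x ^ p = 1) : x ∈ zE E := by
  refine ⟨?_, hx⟩
  have hZlt : zE E < E := lt_of_le_of_ne inf_le_left fun he => h.nc fun a ha b hb => by
    have : b ∈ zE E := by rw [he]; exact hb
    exact mem_centralizer_iff.mp this.2 a ha
  obtain ⟨a, haE, haZ⟩ := SetLike.exists_of_lt hZlt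
  set A := zE E ⊔ zpowers a
  have hAE : A ≤ E := sup_le inf_le_left (zpowers_le.mpr haE)
  have hAc : ∀ u ∈ A, ∀ v ∈ A, u * v = v * u :=
    PGroup.sup_zpowers_comm (A := zE E) (fun u hu v hv => mem_centralizer_iff.mp hv.2 u hu.1)
      (mem_centralizer_iff.mpr fun u hu => (mem_centralizer_iff.mp hu.2 a haE).symm)
  have hA2 : p ^ 2 ≤ Nat.card A := by
    have hlt : zE E < A := lt_of_le_of_ne le_sup_left fun he =>
      haZ (by rw [he]; exact mem_sup_right (mem_zpowers a))
    have := mul_card_le_of_lt hG hlt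
    rw [h.card_z hG] at this
    rwa [sq]
  exact hAE (mem_of_commute hrk hAc (fun u hu => h.exp u (hAE hu)) hA2 hxp
    fun u hu => mem_centralizer_iff.mp hx u (hAE hu))

theorem Heis.centralizer_cyclic (hp2 : p ≠ 2) (hG : IsPGroup p G) (hrk : Cfsg.PRankLE p 2 G)
    {E : Subgroup G} (h : Heis p E) : ∃ w : G, zpowers w = centralizer (E : Set G) := by
  have hZ := h.card_z hG
  have hsame : ∀ x y : centralizer (E : Set G), orderOf x = p → y ^ p = 1 → y ∈ zpowers x := by
    intro x y hx hy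
    have hxp : (x : G) ^ p = 1 := by
      have := congrArg Subtype.val (orderOf_dvd_iff_pow_eq_one.mp (dvd_of_eq hx))
      simpa using this
    have hyp : (y : G) ^ p = 1 := by simpa using congrArg Subtype.val hy
    have hle : zpowers (x : G) ≤ zE E := zpowers_le.mpr (h.mem_z_of_pow hG hrk x.2 hxp)
    have heq : zpowers (x : G) = zE E := eq_of_le_of_card_le hle
      (by rw [hZ, Nat.card_zpowers, orderOf_coe, hx])
    obtain ⟨k, hk⟩ := mem_zpowers_iff.mp (heq.ge (h.mem_z_of_pow hG hrk y.2 hyp))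
    exact mem_zpowers_iff.mpr ⟨k, Subtype.ext (by simpa using hk)⟩
  rcases unique_order_p_cases (hG.to_subgroup _) hsame with hc | ⟨h2, -⟩
  · exact (Subgroup.isCyclic_iff_exists_zpowers_eq_top _).mp hc
  · exact absurd h2 hp2

/-- `E` normal, `A` a normal subgroup of order `p ^ 2` inside. -/
structure Setup (p : ℕ) (E A : Subgroup G) : Prop extends Heis p E where
  odd : p ≠ 2
  pgroup : IsPGroup p G
  rk : Cfsg.PRankLE p 2 G
  normE : E.Normal
  normA : A.Normal
  leA : A ≤ E
  cardA : Nat.card A = p ^ 2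
  zA : zE E ≤ A

theorem exists_setup (hp2 : p ≠ 2) (hG : IsPGroup p G) (hrk : Cfsg.PRankLE p 2 G) {E : Subgroup G}
    [hEn : E.Normal] (h : Heis p E) : ∃ A : Subgroup G, Setup p E A := by
  haveI : (zE E).Normal := inferInstance
  have hlt : zE E < E := lt_of_le_of_ne inf_le_left fun he => by
    have := h.card_z hG
    rw [he, h.card] at this
    exact absurd (Nat.pow_right_injective hp.out.two_le (this.trans (pow_one p).symm)) (by norm_num)
  obtain ⟨A, hAn, hZA, hAE, hA, -⟩ := PGroup.exists_normal_between hG hlt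
  exact ⟨A, ⟨h, hp2, hG, hrk, hEn, hAn, hAE, by rw [hA, h.card_z hG, sq], hZA⟩⟩

namespace Setup

variable {E A : Subgroup G}

theorem z_center (S : Setup p E A) : zE E ≤ center G := by
  haveI := S.normE
  haveI : (zE E).Normal := inferInstance
  exact le_center_of_card_eq S.pgroup (S.toHeis.card_z S.pgroup)

theorem comm_A (S : Setup p E A) {a b : G} (ha : a ∈ A) (hb : b ∈ A) : a * b = b * a :=
  congrArg Subtype.val
    ((IsPGroup.isMulCommutative_of_card_eq_prime_sq S.cardA).is_comm.comm ⟨a, ha⟩ ⟨b, hb⟩)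

theorem sup_x (S : Setup p E A) {x : G} (hxE : x ∈ E) (hxA : x ∉ A) : A ⊔ zpowers x = E :=
  eq_sup_zpowers_of_card S.pgroup S.leA (by rw [S.card, S.cardA, pow_succ']) hxE hxA

theorem mem_C (S : Setup p E A) {x : G} (hxE : x ∈ E) (hxA : x ∉ A) {k : G}
    (hk : k ∈ centralizer (A : Set G)) (hkx : Commute k x) : k ∈ centralizer (E : Set G) := by
  have hle : E ≤ centralizer ({k} : Set G) := by
    rw [← S.sup_x hxE hxA]
    exact sup_le (fun a ha => mem_centralizer_singleton_iff.mpr (mem_centralizer_iff.mp hk a ha))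
      (zpowers_le.mpr (mem_centralizer_singleton_iff.mpr hkx.symm.eq))
  exact mem_centralizer_iff.mpr fun e he => mem_centralizer_singleton_iff.mp (hle he)

theorem x_notMem_K (S : Setup p E A) {x : G} (hxE : x ∈ E) (hxA : x ∉ A) :
    x ∉ centralizer (A : Set G) :=
  fun h => hxA (S.zA ⟨hxE, S.mem_C hxE hxA h (Commute.refl x)⟩)

theorem comm_mem_A (S : Setup p E A) {x : G} (hxE : x ∈ E) (g : G) : ⁅g, x⁆ ∈ A := by
  haveI := S.normE
  haveI := S.normA
  have hlt : A < E := lt_of_le_of_ne S.leA fun he => by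
    have := S.card
    rw [← he, S.cardA] at this
    exact absurd (Nat.pow_right_injective hp.out.two_le this) (by norm_num)
  exact PGroup.commutator_mem_of_card S.pgroup hlt (by rw [S.card, S.cardA, pow_succ']) hxE g

/-- `k ↦ ⁅k, x⁆` on `C(A)`. -/
noncomputable def phi (S : Setup p E A) {x : G} (hxE : x ∈ E) : centralizer (A : Set G) →* G :=
  MonoidHom.mk' (fun k => ⁅(k : G), x⁆) fun k l => by
    have hl : Commute (k : G) ⁅(l : G), x⁆ :=
      (mem_centralizer_iff.mp k.2 _ (S.comm_mem_A hxE l)).symm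
    rw [Subgroup.coe_mul, PGroup.commutator_mul_left hl,
      S.comm_A (S.comm_mem_A hxE _) (S.comm_mem_A hxE _)]

theorem phi_apply (S : Setup p E A) {x : G} (hxE : x ∈ E) (k : centralizer (A : Set G)) :
    S.phi hxE k = ⁅(k : G), x⁆ := rfl

theorem card_ker (S : Setup p E A) {x : G} (hxE : x ∈ E) (hxA : x ∉ A) :
    Nat.card (S.phi hxE).ker = Nat.card (centralizer (E : Set G)) := by
  have he : (S.phi hxE).ker = (centralizer (E : Set G)).subgroupOf (centralizer (A : Set G)) := by
    ext k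
    rw [MonoidHom.mem_ker, phi_apply, mem_subgroupOf, commutatorElement_eq_one_iff_commute]
    exact ⟨fun h => S.mem_C hxE hxA k.2 h, fun h => (mem_centralizer_iff.mp h x hxE).symm⟩
  rw [he]
  exact Nat.card_congr (subgroupOfEquivOfLe (centralizer_le S.leA)).toEquiv

theorem index_K (S : Setup p E A) {x : G} (hxE : x ∈ E) (hxA : x ∉ A) :
    (centralizer (A : Set G)).index = p := by
  haveI := S.normA
  have h1 := (PGroup.index_centralizer_le S.pgroup 2 A S.normA S.cardA).trans (pow_one p).le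
  obtain ⟨k, hk⟩ := IsPGroup.index S.pgroup (centralizer (A : Set G))
  have hk1 : k ≤ 1 := (Nat.pow_le_pow_iff_right hp.out.one_lt).mp (hk ▸ h1.trans_eq (pow_one p).symm)
  interval_cases k
  · exact absurd ((index_eq_one.mp (hk.trans (pow_zero p))) ▸ mem_top x) (S.x_notMem_K hxE hxA)
  · simpa using hk

theorem sup_K (S : Setup p E A) {x : G} (hxE : x ∈ E) (hxA : x ∉ A) :
    centralizer (A : Set G) ⊔ zpowers x = ⊤ :=
  eq_sup_zpowers_of_card S.pgroup le_top (by
    rw [card_top, ← (centralizer (A : Set G)).card_mul_index, S.index_K hxE hxA, mul_comm])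
    (mem_top x) (S.x_notMem_K hxE hxA)

theorem decomp (S : Setup p E A) {x : G} (hxE : x ∈ E) (hxA : x ∉ A) (g : G) :
    ∃ k ∈ centralizer (A : Set G), ∃ i : ℤ, g = k * x ^ i := by
  haveI := S.normA
  obtain ⟨k, hk, u, hu, rfl⟩ := mem_sup_of_normal_left.mp (S.sup_K hxE hxA ▸ mem_top g)
  obtain ⟨i, rfl⟩ := mem_zpowers_iff.mp hu
  exact ⟨k, hk, i, rfl⟩

theorem exists_y (S : Setup p E A) : ∃ y ∈ A, y ∉ zE E := by
  refine SetLike.exists_of_lt (lt_of_le_of_ne S.zA fun he => ?_)
  have := S.toHeis.card_z S.pgroup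
  rw [he, S.cardA] at this
  exact absurd (Nat.pow_right_injective hp.out.two_le (this.trans (pow_one p).symm)) (by norm_num)

theorem comm_ne_one (S : Setup p E A) {x : G} (hxE : x ∈ E) (hxA : x ∉ A) {y : G} (hy : y ∈ A)
    (hyZ : y ∉ zE E) : ¬ Commute y x :=
  fun h => hyZ ⟨S.leA hy, S.mem_C hxE hxA
    (mem_centralizer_iff.mpr fun _ ha => S.comm_A ha hy) h⟩

/-- Elements of `C(A)` mapped into `Z` lie in `C(E) A`. -/
theorem mem_CA (S : Setup p E A) {x : G} (hxE : x ∈ E) (hxA : x ∉ A) {k : G}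
    (hk : k ∈ centralizer (A : Set G)) (hkz : ⁅k, x⁆ ∈ zE E) :
    ∃ a ∈ A, ∃ c ∈ centralizer (E : Set G), k = a * c := by
  obtain ⟨y, hy, hyZ⟩ := S.exists_y
  have hAK : A ≤ centralizer (A : Set G) := fun a ha =>
    mem_centralizer_iff.mpr fun b hb => S.comm_A hb ha
  have hyz : ⁅y, x⁆ ∈ zE E := S.toHeis.commutator_mem_z S.pgroup (S.leA hy) hxE
  have hgen : zpowers ⁅y, x⁆ = zE E := by
    refine eq_of_le_of_card_le (zpowers_le.mpr hyz) ?_
    rw [S.toHeis.card_z S.pgroup, Nat.card_zpowers, orderOf_eq_prime (S.exp _ hyz.1)]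
    exact fun h => S.comm_ne_one hxE hxA hy hyZ (commutatorElement_eq_one_iff_commute.mp h)
  obtain ⟨i, hi⟩ := mem_zpowers_iff.mp (hgen.ge hkz)
  refine ⟨y ^ i, zpow_mem hy i, (y ^ i)⁻¹ * k, ?_, by group⟩
  refine S.mem_C hxE hxA (mul_mem (inv_mem (hAK (zpow_mem hy i))) hk) ?_
  rw [← commutatorElement_eq_one_iff_commute]
  have h1 : (S.phi hxE) ((⟨y, hAK hy⟩ : centralizer (A : Set G)) ^ i)⁻¹ * S.phi hxE ⟨k, hk⟩ = 1 := by
    rw [map_inv, map_zpow]
    show (⁅y, x⁆ ^ i)⁻¹ * ⁅k, x⁆ = 1
    rw [hi, inv_mul_cancel]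
  rw [← map_mul] at h1
  simpa [phi_apply] using h1

/-- An element of `C(A)` outside `C(E) A` has `p`-th power generating `C(E)`. -/
theorem pow_gen (S : Setup p E A) {x : G} (hxE : x ∈ E) {k : G}
    (hk : k ∈ centralizer (A : Set G)) (hkz : ⁅k, x⁆ ∉ zE E) :
    zpowers (k ^ p) = centralizer (E : Set G) := by
  by_cases hxA : x ∈ A
  · exact absurd (by rw [commutatorElement_eq_one_iff_commute.mpr
      (mem_centralizer_iff.mp hk x hxA).symm]; exact one_mem _) hkz
  obtain ⟨w, hw⟩ := S.toHeis.centralizer_cyclic S.odd S.pgroup S.rk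
  haveI := S.normE
  haveI hCn : (centralizer (E : Set G)).Normal := inferInstance
  have hkp : k ^ p ∈ centralizer (E : Set G) := by
    refine S.mem_C hxE hxA (pow_mem hk p) ?_
    rw [← commutatorElement_eq_one_iff_commute]
    have := map_pow (S.phi hxE) ⟨k, hk⟩ p
    simp only [phi_apply, SubgroupClass.coe_pow] at this
    rw [this]
    exact S.exp _ (S.leA (S.comm_mem_A hxE k))
  obtain ⟨m, hm⟩ := IsPGroup.iff_orderOf.mp S.pgroup w
  obtain ⟨j, hj⟩ := mem_zpowers_iff.mp (hw.ge hkp)
  by_cases hdvd : (p : ℤ) ∣ j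
  · exfalso
    obtain ⟨l, rfl⟩ := hdvd
    have hconj : k * w * k⁻¹ ∈ zpowers w := by
      rw [hw]; exact hCn.conj_mem w (hw.le (mem_zpowers w)) k
    have hbp : Commute (k ^ p) w := hj ▸ (Commute.refl w).zpow_left _
    obtain ⟨r, hr⟩ := mem_zpowers_iff.mp hconj
    obtain ⟨m', hm'⟩ := IsPGroup.iff_orderOf.mp S.pgroup (w ^ (-l))
    have hconj' : k * w ^ (-l) * k⁻¹ ∈ zpowers (w ^ (-l)) := by
      rw [PGroup.conj_zpow_of_conj_eq hr.symm, mul_comm, zpow_mul]
      exact zpow_mem (mem_zpowers _) r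
    obtain ⟨h1, h2, h3, -⟩ := PGroup.odd_local hp.out S.odd hm' hconj' (hbp.zpow_right _)
    have hwk : ⁅w ^ (-l), k⁆ = ⁅k, w ^ (-l)⁆⁻¹ := (commutatorElement_inv k _).symm
    have hpow : (k * w ^ (-l)) ^ p = 1 := by
      rw [PGroup.mul_pow_prime_eq hp.out S.odd (hwk ▸ h3.inv_right) (hwk ▸ h2.inv_right)
        (by rw [hwk, inv_pow, h1, inv_one]), ← hj,
        ← zpow_natCast (w ^ (-l)), ← zpow_mul, ← zpow_add,
        show (p : ℤ) * l + -l * p = 0 by ring, zpow_zero]
    have hwC : w ^ (-l) ∈ centralizer (E : Set G) := hw.le (zpow_mem (mem_zpowers w) _)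
    have hmem : k * w ^ (-l) ∈ A :=
      mem_of_commute S.rk (fun a ha b hb => S.comm_A ha hb) (fun a ha => S.exp a (S.leA ha))
        S.cardA.ge hpow fun a ha =>
          mem_centralizer_iff.mp (mul_mem hk (centralizer_le S.leA hwC)) a ha
    refine hkz ?_
    have hz := S.toHeis.commutator_mem_z S.pgroup (S.leA hmem) hxE
    have hcw : ⁅w ^ (-l), x⁆ = 1 :=
      commutatorElement_eq_one_iff_commute.mpr (mem_centralizer_iff.mp hwC x hxE).symm
    rwa [PGroup.commutator_mul_left (by rw [hcw]; exact Commute.one_right _), hcw, one_mul] at hz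
  · rw [← hw]
    refine le_antisymm (zpowers_le.mpr (hj ▸ zpow_mem (mem_zpowers w) j)) (zpowers_le.mpr ?_)
    have hcop : IsCoprime j ((p ^ m : ℕ) : ℤ) := by
      push_cast
      exact (((Nat.prime_iff_prime_int.mp hp.out).coprime_iff_not_dvd.mpr hdvd).symm).pow_right
    obtain ⟨u, v, huv⟩ := hcop
    refine mem_zpowers_iff.mpr ⟨u, ?_⟩
    rw [← hj, ← zpow_mul]
    calc w ^ (j * u) = w ^ (j * u + v * ((p ^ m : ℕ) : ℤ)) := by
          have h1 : w ^ (v * ((p ^ m : ℕ) : ℤ)) = 1 := by
            rw [← orderOf_dvd_iff_zpow_eq_one, hm]; exact dvd_mul_left _ _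
          rw [zpow_add, h1, mul_one]
      _ = w := by rw [mul_comm j u, huv, zpow_one]

/-- The centralizer of `x`. -/
theorem centralizer_x (S : Setup p E A) {x : G} (hxE : x ∈ E) (hxA : x ∉ A) {g : G}
    (hg : Commute g x) : g ∈ centralizer (E : Set G) ⊔ zpowers x := by
  obtain ⟨k, hk, i, rfl⟩ := S.decomp hxE hxA g
  refine mul_mem (mem_sup_left (S.mem_C hxE hxA hk ?_)) (mem_sup_right (zpow_mem (mem_zpowers x) i))
  simpa using hg.mul_left ((Commute.refl x).zpow_left (-i))

/-- If `|C(E)| ≥ p ^ 2`, the elements of order `p` lie in `E`. -/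
theorem mem_E_of_pow (S : Setup p E A) (hC : p ^ 2 ≤ Nat.card (centralizer (E : Set G))) {g : G}
    (hg : g ^ p = 1) : g ∈ E := by
  haveI := S.normE
  obtain ⟨x, hxE, hxA⟩ : ∃ x ∈ E, x ∉ A := by
    refine SetLike.exists_of_lt (lt_of_le_of_ne S.leA fun he => ?_)
    have := S.card
    rw [← he, S.cardA] at this
    exact absurd (Nat.pow_right_injective hp.out.two_le this) (by norm_num)
  obtain ⟨k, hk, i, rfl⟩ := S.decomp hxE hxA g
  by_cases hkz : ⁅k, x⁆ ∈ zE E
  · obtain ⟨a, ha, c, hc, rfl⟩ := S.mem_CA hxE hxA hk hkz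
    have hce : ∀ e ∈ E, Commute c e := fun e he => (mem_centralizer_iff.mp hc e he).symm
    have hsplit : a * c * x ^ i = c * (a * x ^ i) := by
      rw [← mul_assoc, (hce a (S.leA ha)).eq]
    rw [hsplit] at hg ⊢
    have hmemE : a * x ^ i ∈ E := mul_mem (S.leA ha) (zpow_mem hxE i)
    rw [(hce _ hmemE).mul_pow, S.exp _ hmemE, mul_one] at hg
    exact mul_mem (S.toHeis.mem_z_of_pow S.pgroup S.rk hc hg).1 hmemE
  · exfalso
    have hgen := S.pow_gen hxE hk hkz
    have hkpE : k ^ p ∈ E := by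
      rw [← QuotientGroup.eq_one_iff, QuotientGroup.mk_pow]
      have h1 : QuotientGroup.mk' E (k * x ^ i) = QuotientGroup.mk' E k := by
        rw [map_mul, (QuotientGroup.eq_one_iff _).mpr (zpow_mem hxE i) |> fun h =>
          (show QuotientGroup.mk' E (x ^ i) = 1 from h), mul_one]
      have h2 := congrArg (· ^ p) h1
      simp only [← map_pow, hg, map_one] at h2
      rw [← QuotientGroup.mk_pow]
      exact h2.symm
    have hle : centralizer (E : Set G) ≤ zE E := by
      rw [← hgen]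
      exact zpowers_le.mpr ⟨hkpE, hgen.le (mem_zpowers _)⟩
    have := hC.trans (Nat.le_of_dvd Nat.card_pos (card_dvd_of_le hle))
    rw [S.toHeis.card_z S.pgroup] at this
    exact absurd ((Nat.pow_le_pow_iff_right hp.out.one_lt).mp (this.trans_eq (pow_one p).symm))
      (by norm_num)

end Setup

/-- A rank two group with an exponent `p` subgroup of order `p ^ 3`: it is normal, or the class
is maximal. -/
theorem normal_or_maximalClass (hp2 : p ≠ 2) (hG : IsPGroup p G) (hrk : Cfsg.PRankLE p 2 G)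
    {E : Subgroup G} (h : Heis p E) :
    E.Normal ∨ ∃ A₁ : Subgroup G, Nat.card A₁ = p ^ 2 ∧ centralizer (A₁ : Set G) = A₁ := by
  set N := normalizer (E : Set G) with hN
  have hEN : E ≤ N := le_normalizer
  set E' := E.subgroupOf N with hE'
  haveI : E'.Normal := inferInstanceAs (E.subgroupOf (normalizer (E : Set G))).Normal
  have hH : Heis p E' := by
    refine ⟨by rw [Nat.card_congr (subgroupOfEquivOfLe hEN).toEquiv, h.card],
      fun a ha => Subtype.ext (by simpa using h.exp a (mem_subgroupOf.mp ha)), fun hc => h.nc ?_⟩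
    intro a ha b hb
    exact congrArg Subtype.val (hc ⟨a, hEN ha⟩ (mem_subgroupOf.mpr ha) ⟨b, hEN hb⟩
      (mem_subgroupOf.mpr hb))
  have hrkN : Cfsg.PRankLE p 2 N := by
    intro B hB hBe
    rw [← card_map_of_injective (f := N.subtype) N.subtype_injective]
    haveI := hB
    refine hrk _ inferInstance ?_
    rintro _ ⟨b, hb, rfl⟩
    rw [← map_pow, hBe b hb, map_one]
  obtain ⟨A, S⟩ := exists_setup hp2 (hG.to_subgroup N) hrkN hH
  have hCN : centralizer (E : Set G) ≤ N := by
    intro c hc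
    refine mem_normalizer_iff.mpr fun e => ⟨fun he => ?_, fun he => ?_⟩
    · rwa [show c * e * c⁻¹ = e by rw [← mem_centralizer_iff.mp hc e he, mul_inv_cancel_right]]
    · have := mem_centralizer_iff.mp hc _ he
      rw [inv_mul_cancel_right] at this
      have he' : e = c * e * c⁻¹ := mul_left_cancel this
      exact he'.symm ▸ he
  have hcard : Nat.card (centralizer (E' : Set N)) = Nat.card (centralizer (E : Set G)) := by
    have he : centralizer (E' : Set N) = (centralizer (E : Set G)).subgroupOf N := by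
      ext c
      simp only [mem_centralizer_iff, mem_subgroupOf, hE', SetLike.mem_coe]
      exact ⟨fun h e he => congrArg Subtype.val (h ⟨e, hEN he⟩ he),
        fun h e he => Subtype.ext (h e he)⟩
    rw [he, Nat.card_congr (subgroupOfEquivOfLe hCN).toEquiv]
  rcases le_or_gt (p ^ 2) (Nat.card (centralizer (E : Set G))) with hC | hC
  · left
    rw [← normalizer_eq_top_iff]
    by_contra hne
    obtain ⟨g, hg, hgN⟩ := exists_mem_normalizer_not_mem hG hne
    refine hgN (PGroup.mem_normalizer_of_conj_le fun e he => ?_)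
    have hmem : g * e * g⁻¹ ∈ N := (mem_normalizer_iff.mp hg e).mp (hEN he)
    exact mem_subgroupOf.mp (S.mem_E_of_pow (hcard ▸ hC) (g := ⟨_, hmem⟩)
      (Subtype.ext (by rw [SubgroupClass.coe_pow, conj_pow, h.exp e he]; simp)))
  · right
    have hCz : centralizer (E : Set G) = zE E := by
      refine (eq_of_le_of_card_le inf_le_right ?_).symm
      obtain ⟨k, hk⟩ := exists_subgroup_card_eq_pow hG (centralizer (E : Set G))
      rw [hk] at hC ⊢
      rw [h.card_z hG]
      exact (Nat.pow_le_pow_right hp.out.pos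
        (Nat.le_of_lt_succ ((Nat.pow_lt_pow_iff_right hp.out.one_lt).mp hC))).trans_eq (pow_one p)
    obtain ⟨x, hxE', hxA⟩ : ∃ x ∈ E', x ∉ A := by
      refine SetLike.exists_of_lt (lt_of_le_of_ne S.leA fun he => ?_)
      have := S.card
      rw [← he, S.cardA] at this
      exact absurd (Nat.pow_right_injective hp.out.two_le this) (by norm_num)
    have hxE : (x : G) ∈ E := mem_subgroupOf.mp hxE'
    set A₁ := zE E ⊔ zpowers (x : G) with hA₁
    have hxz : (x : G) ∉ zE E := fun hz => hxA (S.zA ⟨hxE', mem_centralizer_iff.mpr fun e he =>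
      Subtype.ext (mem_centralizer_iff.mp hz.2 e (mem_subgroupOf.mp he))⟩)
    have hA₁E : A₁ ≤ E := sup_le inf_le_left (zpowers_le.mpr hxE)
    have hcomm : ∀ u ∈ A₁, ∀ v ∈ A₁, u * v = v * u :=
      PGroup.sup_zpowers_comm (A := zE E) (fun u hu v hv => mem_centralizer_iff.mp hv.2 u hu.1)
        (mem_centralizer_iff.mpr fun u hu => (mem_centralizer_iff.mp hu.2 _ hxE).symm)
    have hA₁c : Nat.card A₁ = p ^ 2 := by
      refine le_antisymm (hrk A₁ ⟨⟨fun u v => Subtype.ext (hcomm u u.2 v v.2)⟩⟩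
        fun u hu => h.exp u (hA₁E hu)) ?_
      have := mul_card_le_of_lt hG (show zE E < A₁ from lt_of_le_of_ne le_sup_left fun he =>
        hxz (by rw [he]; exact mem_sup_right (mem_zpowers _)))
      rw [h.card_z hG] at this
      rwa [sq]
    refine ⟨A₁, hA₁c, ?_⟩
    set K := centralizer (A₁ : Set G) with hK
    have hA₁K : A₁ ≤ K := fun u hu => mem_centralizer_iff.mpr fun v hv => hcomm v hv u hu
    have hKN : ∀ k ∈ K, k ∈ N → k ∈ A₁ := by
      intro k hk hkN
      have hkx : Commute (⟨k, hkN⟩ : N) x := Subtype.ext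
        (mem_centralizer_iff.mp hk x (mem_sup_right (mem_zpowers _))).symm
      have hmem := mem_map_of_mem N.subtype (S.centralizer_x hxE' hxA hkx)
      rw [Subgroup.map_sup, MonoidHom.map_zpowers] at hmem
      have hle : (centralizer (E' : Set N)).map N.subtype ≤ zE E := by
        rintro _ ⟨c, hc, rfl⟩
        have hc' : (c : G) ∈ centralizer (E : Set G) := mem_centralizer_iff.mpr fun e he =>
          congrArg Subtype.val (mem_centralizer_iff.mp hc ⟨e, hEN he⟩ (mem_subgroupOf.mpr he))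
        rwa [hCz] at hc'
      exact (sup_le (hle.trans le_sup_left) le_sup_right :
        (centralizer (E' : Set N)).map N.subtype ⊔ zpowers (x : G) ≤ A₁) hmem
    have hEK : E ≤ normalizer (K : Set G) := by
      intro e he
      refine PGroup.mem_normalizer_of_conj_le fun k hk => mem_centralizer_iff.mpr fun a ha => ?_
      have ha' : e⁻¹ * a * e ∈ A₁ := by
        have hz := h.commutator_mem_z hG (E.inv_mem he) (hA₁E ha)
        have : e⁻¹ * a * e = ⁅e⁻¹, a⁆ * a := by rw [commutatorElement_def]; group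
        rw [this]; exact mul_mem (mem_sup_left hz) ha
      have := mem_centralizer_iff.mp hk _ ha'
      calc a * (e * k * e⁻¹) = e * (e⁻¹ * a * e * k) * e⁻¹ := by group
        _ = e * (k * (e⁻¹ * a * e)) * e⁻¹ := by rw [this]
        _ = e * k * e⁻¹ * a := by group
    refine le_antisymm ?_ hA₁K
    intro k hk
    by_contra hkA
    set H := E ⊔ K
    have hEH : E < H := lt_of_le_of_ne le_sup_left fun he =>
      hkA (hKN k hk (hEN (he ▸ mem_sup_right hk)))
    have hne : E.subgroupOf H ≠ ⊤ := by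
      rw [ne_eq, subgroupOf_eq_top]; exact not_le_of_gt hEH
    obtain ⟨g, hg, hgE⟩ := exists_mem_normalizer_not_mem (hG.to_subgroup H) hne
    have hgN : (g : G) ∈ N := PGroup.mem_normalizer_of_conj_le fun e he =>
      mem_subgroupOf.mp ((mem_normalizer_iff.mp hg ⟨e, hEH.le he⟩).mp (mem_subgroupOf.mpr he))
    obtain ⟨e, he, l, hl, hel⟩ : ∃ e ∈ E, ∃ l ∈ K, e * l = (g : G) := by
      have : (g : G) ∈ ((E : Set G) * (K : Set G)) := by
        rw [← coe_mul_of_left_le_normalizer_right _ _ hEK]; exact g.2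
      obtain ⟨e, he, l, hl, hel⟩ := this
      exact ⟨e, he, l, hl, hel⟩
    refine hgE (mem_subgroupOf.mpr ?_)
    rw [← hel]
    refine mul_mem he (hA₁E (hKN l hl ?_))
    have : l = e⁻¹ * (g : G) := by rw [← hel]; group
    rw [this]
    exact mul_mem (inv_mem (hEN he)) hgN

end Cfsg.Agent.RankTwoOdd
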