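/-
Blackburn's classification of `p`-groups of rank at most two, `p` odd.

* `Setup.type_two_or_three` : relations when there is a normal `E ≅ p^{1+2}_+`
* `good_or_maximalClass` : no such `E`: `Good` or a self-centralizing subgroup of order `p ^ 2`
* `rank_two_classification`
-/
import Cfsg.Agent.Lib.RankTwoOdd.Heisenberg
import Cfsg.Agent.Lib.PGroup.RankTwoAut

set_option linter.style.haveILetI false
set_option linter.unusedSectionVars false

open Subgroup
open scoped commutatorElement

universe u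

namespace Cfsg.Agent.RankTwoOdd

open Cfsg.Agent.PGroup (exists_subgroup_card_eq_pow eq_of_le_of_card_le mul_card_le_of_lt
  le_center_of_card_eq commute_of_mem_center eq_sup_zpowers_of_card SmallExponent)

variable {p : ℕ} [hp : Fact p.Prime] {G : Type u} [Group G] [Finite G]

/-- The relations of the second type, `n = m + 2`. -/
def TypeTwo (p n : ℕ) (G : Type u) [Group G] : Prop :=
  3 ≤ n ∧ ∃ x y z : G, Subgroup.closure ({x, y, z} : Set G) = ⊤ ∧ x ^ p = 1 ∧ y ^ p = 1 ∧
    z ^ p ^ (n - 2) = 1 ∧ x * z = z * x ∧ y * z = z * y ∧ x⁻¹ * y * x = y * z ^ p ^ (n - 3)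

/-- The relations of the third type, `n = m + 3`. -/
def TypeThree (p n : ℕ) (G : Type u) [Group G] : Prop :=
  4 ≤ n ∧ ∃ (s : ℕ) (x y z : G), (s = 1 ∨ ¬ IsSquare (s : ZMod p)) ∧
    Subgroup.closure ({x, y, z} : Set G) = ⊤ ∧ x ^ p = 1 ∧ y ^ p = 1 ∧ z ^ p ^ (n - 2) = 1 ∧
    y * z = z * y ∧ x⁻¹ * y * x = y * z ^ (s * p ^ (n - 3)) ∧ x⁻¹ * z * x = y * z

namespace Setup

variable {E A : Subgroup G}

theorem z_gen (S : Setup p E A) {w : G} {m : ℕ} (hw : zpowers w = centralizer (E : Set G))
    (hm : orderOf w = p ^ m) : 1 ≤ m ∧ zpowers (w ^ p ^ (m - 1)) = zE E := by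
  have hZ := S.toHeis.card_z S.pgroup
  have hm1 : 1 ≤ m := by
    by_contra h0
    have h2 := Nat.le_of_dvd Nat.card_pos
      (card_dvd_of_le (show zE E ≤ zpowers w from hw ▸ inf_le_right))
    rw [hZ, Nat.card_zpowers, hm, show m = 0 by omega, pow_zero] at h2
    exact absurd h2 (not_le.mpr hp.out.one_lt)
  refine ⟨hm1, eq_of_le_of_card_le (zpowers_le.mpr (S.toHeis.mem_z_of_pow S.pgroup S.rk
    (hw ▸ pow_mem (mem_zpowers w) _) ?_)) ?_⟩
  · rw [← pow_mul, ← pow_succ, show m - 1 + 1 = m by omega, ← hm, pow_orderOf_eq_one]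
  · rw [hZ, Nat.card_zpowers]
    refine le_of_eq (orderOf_eq_prime ?_ ?_).symm
    · rw [← pow_mul, ← pow_succ, show m - 1 + 1 = m by omega, ← hm, pow_orderOf_eq_one]
    · refine pow_ne_one_of_lt_orderOf (pow_ne_zero _ hp.out.ne_zero) ?_
      rw [hm]; exact Nat.pow_lt_pow_right hp.out.one_lt (by omega)

theorem card_eq (S : Setup p E A) {x : G} (hxE : x ∈ E) (hxA : x ∉ A) {w : G} {m : ℕ}
    (hw : zpowers w = centralizer (E : Set G)) (hm : orderOf w = p ^ m) :
    Nat.card G = p * (p ^ m * Nat.card (S.phi hxE).range) := by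
  rw [← (centralizer (A : Set G)).card_mul_index, S.index_K hxE hxA,
    ← (S.phi hxE).ker.card_mul_index, S.card_ker hxE hxA, ← hw, Nat.card_zpowers, hm, index_ker]
  ring

theorem A_eq (S : Setup p E A) {y : G} (hy : y ∈ A) (hyZ : y ∉ zE E) : zE E ⊔ zpowers y = A :=
  eq_sup_zpowers_of_card S.pgroup S.zA
    (by rw [S.cardA, S.toHeis.card_z S.pgroup, sq]) hy hyZ

theorem z_le_range (S : Setup p E A) {x : G} (hxE : x ∈ E) (hxA : x ∉ A) :
    zE E ≤ (S.phi hxE).range := by
  obtain ⟨y, hy, hyZ⟩ := S.exists_y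
  have hyz : ⁅y, x⁆ ∈ zE E := S.toHeis.commutator_mem_z S.pgroup (S.leA hy) hxE
  have hgen : zpowers ⁅y, x⁆ = zE E := by
    refine eq_of_le_of_card_le (zpowers_le.mpr hyz) ?_
    rw [S.toHeis.card_z S.pgroup, Nat.card_zpowers, orderOf_eq_prime (S.exp _ hyz.1)]
    exact fun h => S.comm_ne_one hxE hxA hy hyZ (commutatorElement_eq_one_iff_commute.mp h)
  rw [← hgen]
  exact zpowers_le.mpr ⟨⟨y, mem_centralizer_iff.mpr fun b hb => S.comm_A hb hy⟩, rfl⟩

theorem conj_pow_formula (S : Setup p E A) {x y z c : G} (hy : y ∈ A) (hz : z ∈ centralizer (A : Set G))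
    (hc : c ∈ zE E) (h1 : x⁻¹ * y * x = y * c) (h2 : x⁻¹ * z * x = y * z) (i : ℕ) :
    (x ^ i)⁻¹ * y * x ^ i = y * c ^ i ∧
      ∃ ζ ∈ zE E, (x ^ i)⁻¹ * z * x ^ i = y ^ i * ζ * z := by
  have hcc : ∀ g : G, Commute c g := fun g => (commute_of_mem_center (S.z_center hc) g).symm
  induction i with
  | zero => exact ⟨by simp, 1, one_mem _, by simp⟩
  | succ i ih =>
    obtain ⟨ih1, ζ, hζ, ih2⟩ := ih
    have hζc : ∀ g : G, Commute ζ g := fun g => (commute_of_mem_center (S.z_center hζ) g).symm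
    refine ⟨?_, c ^ i * ζ, mul_mem (pow_mem hc i) hζ, ?_⟩
    · calc (x ^ (i + 1))⁻¹ * y * x ^ (i + 1) = x⁻¹ * ((x ^ i)⁻¹ * y * x ^ i) * x := by
            rw [pow_succ]; group
        _ = x⁻¹ * (y * c ^ i) * x := by rw [ih1]
        _ = (x⁻¹ * y * x) * (x⁻¹ * c ^ i * x) := by group
        _ = y * c * c ^ i := by
            rw [h1, mul_assoc x⁻¹, ((hcc x).pow_left i).eq, inv_mul_cancel_left]
        _ = y * c ^ (i + 1) := by rw [pow_succ', mul_assoc]
    · calc (x ^ (i + 1))⁻¹ * z * x ^ (i + 1) = x⁻¹ * ((x ^ i)⁻¹ * z * x ^ i) * x := by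
            rw [pow_succ]; group
        _ = x⁻¹ * (y ^ i * ζ * z) * x := by rw [ih2]
        _ = (x⁻¹ * y * x) ^ i * (x⁻¹ * ζ * x) * (x⁻¹ * z * x) := by
            rw [show (x⁻¹ * y * x) ^ i = x⁻¹ * y ^ i * x by
              have := conj_pow (a := x⁻¹) (b := y) (i := i); rwa [inv_inv] at this]
            group
        _ = (y * c) ^ i * ζ * (y * z) := by
            rw [h1, h2, mul_assoc x⁻¹ ζ, (hζc x).eq, inv_mul_cancel_left]
        _ = y ^ (i + 1) * (c ^ i * ζ) * z := by
            rw [(hcc y).symm.mul_pow, pow_succ]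
            calc y ^ i * c ^ i * ζ * (y * z) = y ^ i * ((c ^ i * ζ) * y) * z := by group
              _ = y ^ i * (y * (c ^ i * ζ)) * z := by rw [(((hcc y).pow_left i).mul_left (hζc y)).eq]
              _ = _ := by group

theorem type_two (S : Setup p E A) {n : ℕ} (hn : Nat.card G = p ^ n) {x : G} (hxE : x ∈ E)
    (hxA : x ∉ A) (hall : ∀ k ∈ centralizer (A : Set G), ⁅k, x⁆ ∈ zE E) : TypeTwo p n G := by
  obtain ⟨w, hw⟩ := S.toHeis.centralizer_cyclic S.odd S.pgroup S.rk
  obtain ⟨m, hm⟩ := IsPGroup.iff_orderOf.mp S.pgroup w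
  obtain ⟨hm1, hgen⟩ := S.z_gen hw hm
  have hr : (S.phi hxE).range = zE E :=
    le_antisymm (by rintro _ ⟨k, rfl⟩; exact hall k k.2) (S.z_le_range hxE hxA)
  have hc := S.card_eq hxE hxA hw hm
  rw [hr, S.toHeis.card_z S.pgroup, hn, ← pow_succ, ← pow_succ'] at hc
  obtain rfl : n = m + 1 + 1 := Nat.pow_right_injective hp.out.two_le hc
  obtain ⟨y, hy, hyZ⟩ := S.exists_y
  have hcz : y⁻¹ * (x⁻¹ * y * x) ∈ zE E := by
    have := S.toHeis.commutator_mem_z S.pgroup (E.inv_mem (S.leA hy)) (E.inv_mem hxE)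
    rwa [show y⁻¹ * (x⁻¹ * y * x) = ⁅y⁻¹, x⁻¹⁆ by rw [commutatorElement_def]; group]
  have hfin : IsOfFinOrder (w ^ p ^ (m - 1)) := isOfFinOrder_of_finite _
  obtain ⟨j, hj⟩ := hfin.mem_powers_iff_mem_zpowers.mpr (hgen.ge hcz)
  simp only at hj
  have hcop : Nat.Coprime j p := by
    refine ((hp.out.coprime_iff_not_dvd).mpr ?_).symm
    rintro ⟨i, rfl⟩
    have hwp : (w ^ p ^ (m - 1)) ^ p = 1 := by
      rw [← pow_mul, ← pow_succ, show m - 1 + 1 = m by omega, ← hm, pow_orderOf_eq_one]
    rw [pow_mul, hwp, one_pow] at hj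
    refine S.comm_ne_one hxE hxA hy hyZ ?_
    have h1 : x⁻¹ * y * x = y := (inv_mul_eq_one.mp hj.symm).symm
    calc y * x = x * (x⁻¹ * y * x) := by group
      _ = x * y := by rw [h1]
  have hzo : orderOf (w ^ j) = p ^ m := by
    rw [Nat.Coprime.orderOf_pow (by rw [hm]; exact (hcop.symm.pow_left m)), hm]
  have hzC : zpowers (w ^ j) = centralizer (E : Set G) := by
    rw [← hw]
    exact eq_of_le_of_card_le (zpowers_le.mpr (pow_mem (mem_zpowers w) j))
      (by rw [Nat.card_zpowers, Nat.card_zpowers, hzo, hm])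
  have hze : ∀ e ∈ E, e * w ^ j = w ^ j * e := fun e he =>
    mem_centralizer_iff.mp (hzC.le (mem_zpowers _)) e he
  refine ⟨by omega, x, y, w ^ j, ?_, S.exp x hxE, S.exp y (S.leA hy), ?_, hze x hxE,
    hze y (S.leA hy), ?_⟩
  · set H := Subgroup.closure ({x, y, w ^ j} : Set G)
    have hC : centralizer (E : Set G) ≤ H := hzC ▸ zpowers_le.mpr (subset_closure (by simp))
    have hA : A ≤ H := by
      rw [← S.A_eq hy hyZ]
      exact sup_le (inf_le_right.trans hC) (zpowers_le.mpr (subset_closure (by simp)))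
    refine eq_top_iff.mpr fun g _ => ?_
    obtain ⟨k, hk, i, rfl⟩ := S.decomp hxE hxA g
    obtain ⟨a, ha, c, hc, rfl⟩ := S.mem_CA hxE hxA hk (hall k hk)
    exact mul_mem (mul_mem (hA ha) (hC hc)) (zpow_mem (subset_closure (by simp)) i)
  · rw [show m + 1 + 1 - 2 = m by omega, ← hzo, pow_orderOf_eq_one]
  · rw [show m + 1 + 1 - 3 = m - 1 by omega, ← pow_mul, mul_comm, pow_mul, hj]
    group

theorem type_three (S : Setup p E A) {n : ℕ} (hn : Nat.card G = p ^ n) {x z : G} (hxE : x ∈ E)
    (hxA : x ∉ A) (hzK : z ∈ centralizer (A : Set G)) (hzx : ⁅z, x⁆ ∉ zE E) : TypeThree p n G := by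
  haveI := S.normE
  haveI := S.normA
  have hgen0 := S.pow_gen hxE hzK hzx
  obtain ⟨m, hm⟩ := IsPGroup.iff_orderOf.mp S.pgroup (z ^ p)
  obtain ⟨hm1, hgen⟩ := S.z_gen hgen0 hm
  rw [← pow_mul, ← pow_succ', show m - 1 + 1 = m by omega] at hgen
  -- the order of `G`
  have hr : (S.phi hxE).range = A := by
    refine le_antisymm (by rintro _ ⟨k, rfl⟩; exact S.comm_mem_A hxE k) ?_
    refine le_of_eq_of_le (S.A_eq (S.comm_mem_A hxE z) hzx).symm ?_
    exact sup_le (S.z_le_range hxE hxA) (zpowers_le.mpr ⟨⟨z, hzK⟩, rfl⟩)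
  have hc := S.card_eq hxE hxA hgen0 hm
  rw [hr, S.cardA, hn, ← pow_add, ← pow_succ'] at hc
  obtain rfl : n = m + 2 + 1 := Nat.pow_right_injective hp.out.two_le hc
  have hzo : z ^ p ^ (m + 1) = 1 := by
    rw [pow_succ', pow_mul, ← hm, pow_orderOf_eq_one]
  -- one value of `s`
  have key : ∀ x' : G, x' ∈ E → x' ∉ A → ⁅z, x'⁆ ∉ zE E →
      ∀ s : ℕ, x'⁻¹ * (x'⁻¹ * z * x' * z⁻¹) * x' =
        (x'⁻¹ * z * x' * z⁻¹) * z ^ (s * p ^ m) →
      (s = 1 ∨ ¬ IsSquare (s : ZMod p)) → TypeThree p (m + 2 + 1) G := by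
    intro x' hxE' hxA' hzx' s hs hs'
    set y := x'⁻¹ * z * x' * z⁻¹ with hy
    have hyA : y ∈ A := by
      have := S.comm_mem_A (E.inv_mem hxE') z
      rw [show y = ⁅x'⁻¹, z⁆ by rw [hy, commutatorElement_def, inv_inv], ← commutatorElement_inv]
      exact inv_mem this
    have hyZ : y ∉ zE E := by
      intro hyz
      refine hzx' ?_
      have hn' : (zE E).Normal := inferInstance
      have := hn'.conj_mem y hyz x'
      rwa [hy, show x' * (x'⁻¹ * z * x' * z⁻¹) * x'⁻¹ = ⁅z, x'⁆ by
        rw [commutatorElement_def]; group] at this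
    refine ⟨by omega, s, x', y, z, hs', ?_, S.exp x' hxE', S.exp y (S.leA hyA), ?_,
      mem_centralizer_iff.mp hzK y hyA, ?_, by rw [hy]; group⟩
    · set H := Subgroup.closure ({x', y, z} : Set G)
      have hC : centralizer (E : Set G) ≤ H :=
        hgen0 ▸ zpowers_le.mpr (pow_mem (subset_closure (by simp)) p)
      have hA : A ≤ H := by
        rw [← S.A_eq hyA hyZ]
        exact sup_le (inf_le_right.trans hC) (zpowers_le.mpr (subset_closure (by simp)))
      refine eq_top_iff.mpr fun g _ => ?_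
      obtain ⟨k, hk, i, rfl⟩ := S.decomp hxE' hxA' g
      refine mul_mem ?_ (zpow_mem (subset_closure (by simp)) i)
      have hmem : ⁅k, x'⁆ ∈ zE E ⊔ zpowers ⁅z, x'⁆ :=
        (S.A_eq (S.comm_mem_A hxE' z) hzx').ge (S.comm_mem_A hxE' k)
      haveI : (zE E).Normal := inferInstance
      obtain ⟨u, hu, v, hv, huv⟩ := mem_sup_of_normal_left.mp hmem
      obtain ⟨l, rfl⟩ := mem_zpowers_iff.mp hv
      have hk' : ⁅k * (z ^ l)⁻¹, x'⁆ ∈ zE E := by
        have h1 := map_mul (S.phi hxE') ⟨k, hk⟩ ((⟨z, hzK⟩ : centralizer (A : Set G)) ^ l)⁻¹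
        rw [map_inv, map_zpow] at h1
        simp only [phi_apply, Subgroup.coe_mul, Subgroup.coe_inv, SubgroupClass.coe_zpow] at h1
        rw [h1, ← huv, mul_inv_cancel_right]
        exact hu
      obtain ⟨a, ha, c, hc, hkac⟩ :=
        S.mem_CA hxE' hxA' (mul_mem hk (inv_mem (zpow_mem hzK l))) hk'
      rw [show k = a * c * z ^ l by rw [← hkac]; group]
      exact mul_mem (mul_mem (hA ha) (hC hc)) (zpow_mem (subset_closure (by simp)) l)
    · rw [show m + 2 + 1 - 2 = m + 1 by omega, hzo]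
    · rw [show m + 2 + 1 - 3 = m by omega]; exact hs
  set y := x⁻¹ * z * x * z⁻¹ with hy
  have hyA : y ∈ A := by
    have := S.comm_mem_A (E.inv_mem hxE) z
    rw [show y = ⁅x⁻¹, z⁆ by rw [hy, commutatorElement_def, inv_inv], ← commutatorElement_inv]
    exact inv_mem this
  set c := y⁻¹ * (x⁻¹ * y * x) with hcdef
  have hcz : c ∈ zE E := by
    have := S.toHeis.commutator_mem_z S.pgroup (E.inv_mem (S.leA hyA)) (E.inv_mem hxE)
    rwa [show c = ⁅y⁻¹, x⁻¹⁆ by rw [hcdef, commutatorElement_def]; group]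
  have hfin : IsOfFinOrder (z ^ p ^ m) := isOfFinOrder_of_finite _
  obtain ⟨t, ht⟩ := hfin.mem_powers_iff_mem_zpowers.mpr (hgen.ge hcz)
  simp only at ht
  have hyc : x⁻¹ * y * x = y * c := by rw [hcdef]; group
  have hs0 : x⁻¹ * y * x = y * z ^ (t * p ^ m) := by
    rw [hyc, ← ht, ← pow_mul, mul_comm (p ^ m)]
  by_cases hsq : IsSquare (t : ZMod p)
  swap
  · exact key x hxE hxA hzx t hs0 (Or.inr hsq)
  have hord : orderOf (z ^ p ^ m) = p := by
    rw [← Nat.card_zpowers, hgen, S.toHeis.card_z S.pgroup]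
  have ht0 : (t : ZMod p) ≠ 0 := by
    intro h0
    rw [ZMod.natCast_eq_zero_iff] at h0
    have hc1 : c = 1 := by rw [← ht, ← orderOf_dvd_iff_pow_eq_one, hord]; exact h0
    refine S.comm_ne_one hxE hxA hyA ?_ ?_
    · intro hyz
      have hn' : (zE E).Normal := inferInstance
      have := hn'.conj_mem y hyz x
      rw [hy, show x * (x⁻¹ * z * x * z⁻¹) * x⁻¹ = ⁅z, x⁆ by
        rw [commutatorElement_def]; group] at this
      exact hzx this
    · rw [hc1, mul_one] at hyc
      calc y * x = x * (x⁻¹ * y * x) := by group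
        _ = x * y := by rw [hyc]
  obtain ⟨r, hr⟩ := hsq
  have hr0 : r ≠ 0 := fun h => ht0 (by rw [hr, h, mul_zero])
  set i := (r⁻¹).val with hi
  have hicast : (i : ZMod p) = r⁻¹ := by rw [hi, ZMod.natCast_val, ZMod.cast_id]
  have hip : ¬ p ∣ i := fun hd => by
    rw [← ZMod.natCast_eq_zero_iff, hicast] at hd
    exact hr0 (inv_eq_zero.mp hd)
  have hxi : x ∈ zpowers (x ^ i) := by
    have ho : orderOf x = p := orderOf_eq_prime (S.exp x hxE) fun h => hxA (h ▸ one_mem _)
    exact mem_zpowers_pow_iff.mpr (by rw [ho]; exact (hp.out.coprime_iff_not_dvd.mpr hip).symm)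
  obtain ⟨hconj, ζ, hζ, hzi⟩ := S.conj_pow_formula hyA hzK hcz hyc
    (by rw [hy]; group) i
  refine key (x ^ i) (pow_mem hxE i) (fun h => hxA ((zpowers_le.mpr h) hxi)) ?_ 1 ?_ (Or.inl rfl)
  · intro hz'
    refine hzx ?_
    haveI : (zE E).Normal := inferInstance
    rw [← QuotientGroup.eq_one_iff, ← QuotientGroup.mk'_apply, map_commutatorElement,
      commutatorElement_eq_one_iff_commute] at hz' ⊢
    obtain ⟨l, hl⟩ := mem_zpowers_iff.mp hxi
    rw [← hl, map_zpow]
    exact hz'.zpow_right l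
  · have hy' : (x ^ i)⁻¹ * z * x ^ i * z⁻¹ = y ^ i * ζ := by rw [hzi, mul_inv_cancel_right]
    have hζc : ∀ g : G, Commute ζ g := fun g => (commute_of_mem_center (S.z_center hζ) g).symm
    rw [hy', one_mul]
    calc (x ^ i)⁻¹ * (y ^ i * ζ) * x ^ i
          = ((x ^ i)⁻¹ * y * x ^ i) ^ i * ((x ^ i)⁻¹ * ζ * x ^ i) := by
          rw [show ((x ^ i)⁻¹ * y * x ^ i) ^ i = (x ^ i)⁻¹ * y ^ i * x ^ i by
            have := conj_pow (a := (x ^ i)⁻¹) (b := y) (i := i); rwa [inv_inv] at this]
          group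
      _ = (y * c ^ i) ^ i * ζ := by
          rw [hconj, mul_assoc (x ^ i)⁻¹, (hζc (x ^ i)).eq, inv_mul_cancel_left]
      _ = y ^ i * c ^ (i * i) * ζ := by
          rw [((commute_of_mem_center (S.z_center hcz) y).pow_right i).mul_pow, ← pow_mul]
      _ = y ^ i * ζ * c ^ (i * i) := by rw [mul_assoc, ← (hζc (c ^ (i * i))).eq, ← mul_assoc]
      _ = y ^ i * ζ * z ^ p ^ m := by
          congr 1
          rw [← ht, ← pow_mul]
          conv_rhs => rw [← pow_one (z ^ p ^ m)]
          rw [pow_eq_pow_iff_modEq, hord, ← ZMod.natCast_eq_natCast_iff]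
          push_cast
          rw [hicast, hr]
          field_simp

theorem type_two_or_three (S : Setup p E A) {n : ℕ} (hn : Nat.card G = p ^ n) :
    TypeTwo p n G ∨ TypeThree p n G := by
  obtain ⟨x, hxE, hxA⟩ : ∃ x ∈ E, x ∉ A := by
    refine SetLike.exists_of_lt (lt_of_le_of_ne S.leA fun he => ?_)
    have := S.card
    rw [← he, S.cardA] at this
    exact absurd (Nat.pow_right_injective hp.out.two_le this) (by norm_num)
  by_cases hall : ∀ k ∈ centralizer (A : Set G), ⁅k, x⁆ ∈ zE E
  · exact Or.inl (S.type_two hn hxE hxA hall)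
  · push Not at hall
    obtain ⟨z, hz, hzx⟩ := hall
    exact Or.inr (S.type_three hn hxE hxA hz hzx)

end Setup

theorem lcs_ne_bot_of_selfCentralizing {n : ℕ} (hn : Nat.card G = p ^ n) {A : Subgroup G}
    (hA : Nat.card A = p ^ 2) (hC : centralizer (A : Set G) = A) :
    2 ≤ n ∧ (⊤ : Subgroup G).lowerCentralSeries (n - 2) ≠ ⊥ := by
  haveI := (IsPGroup.of_card hn).isNilpotent
  have h2n : 2 ≤ n := (Nat.pow_le_pow_iff_right hp.out.one_lt).mp
    (hA ▸ hn ▸ Nat.le_of_dvd Nat.card_pos (card_subgroup_dvd_card A))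
  refine ⟨h2n, fun h => ?_⟩
  have := Subgroup.lowerCentralSeries_eq_bot_iff_nilpotencyClass_le.mp h
  rw [PGroup.maximal_class_of_selfCentralizing n G hn A hA hC] at this
  omega

/-- No exponent `p` subgroup of order above `p ^ 2`: `Good`, or maximal class. -/
theorem good_or_maximalClass (hp2 : p ≠ 2) (hG : IsPGroup p G) (hs : SmallExponent p G) :
    IsCyclic G ∨ Good p G ∨ ∃ A : Subgroup G, Nat.card A = p ^ 2 ∧ centralizer (A : Set G) = A := by
  by_cases hcyc : IsCyclic G
  · exact Or.inl hcyc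
  obtain ⟨A, -, hAn, ⟨hAc, hAe⟩, hA⟩ := PGroup.exists_normal_elementary_sq (p := p) hp2 hG
    (S := (⊤ : Subgroup G))
    (fun h => hcyc (isCyclic_of_surjective Subgroup.topEquiv (MulEquiv.surjective _)))
  haveI := hAn
  have hA' : ∀ a ∈ A, ∀ b ∈ A, a * b = b * a := fun a ha b hb => setLike_mul_comm ha hb
  have hrk : Cfsg.PRankLE p 2 G := fun B _ hB => hs B hB
  set C := centralizer (A : Set G) with hC
  haveI : C.Normal := inferInstance
  have hAC : A ≤ C := fun a ha => mem_centralizer_iff.mpr fun b hb => hA' b hb a ha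
  have hCA : ∀ x ∈ C, x ^ p = 1 → x ∈ A := fun x hx hxp =>
    mem_of_commute hrk hA' hAe hA.ge hxp fun a ha => mem_centralizer_iff.mp hx a ha
  have hCi : C.index ≤ p := (PGroup.index_centralizer_le hG 2 A hAn hA).trans (pow_one p).le
  have hpowC : ∀ g : G, g ^ p ∈ C := by
    intro g
    obtain ⟨k, hk⟩ := IsPGroup.index hG C
    have hk1 : k ≤ 1 := (Nat.pow_le_pow_iff_right hp.out.one_lt).mp
      (hk ▸ hCi.trans_eq (pow_one p).symm)
    have := C.pow_index_mem g
    rw [hk] at this
    interval_cases k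
    · exact pow_mem (by simpa using this) p
    · simpa using this
  by_cases hout : ∃ g : G, g ∉ C ∧ g ^ (p ^ 2) = 1
  · obtain ⟨g, hgC, hgp⟩ := hout
    refine Or.inr (Or.inr ?_)
    set K := C ⊓ centralizer ({g} : Set G) with hK
    have hKg : ∀ c ∈ K, Commute c g := fun c hc => mem_centralizer_singleton_iff.mp hc.2
    have hone : ∀ x ∈ K, x ^ p = 1 → x ∈ A ⊓ centralizer ({g} : Set G) := fun x hx hxp =>
      ⟨hCA x hx.1 hxp, hx.2⟩
    set Z := A ⊓ centralizer ({g} : Set G)
    have hZlt : Z < A := lt_of_le_of_ne inf_le_left fun he => hgC (mem_centralizer_iff.mpr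
      fun a ha => mem_centralizer_singleton_iff.mp (show a ∈ Z by rw [he]; exact ha).2)
    have hZp : Nat.card Z ≤ p := by
      have := mul_card_le_of_lt hG hZlt
      rw [hA, sq] at this
      exact Nat.le_of_mul_le_mul_left this hp.out.pos
    obtain ⟨v, hv⟩ : ∃ v : G, zpowers v = K := by
      have hsame : ∀ x y : K, orderOf x = p → y ^ p = 1 → y ∈ zpowers x := by
        intro x y hx hy
        have hxp : (x : G) ^ p = 1 := by
          have := congrArg Subtype.val (orderOf_dvd_iff_pow_eq_one.mp (dvd_of_eq hx))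
          simpa using this
        have hyp : (y : G) ^ p = 1 := by simpa using congrArg Subtype.val hy
        have heq : zpowers (x : G) = Z := eq_of_le_of_card_le (zpowers_le.mpr (hone x x.2 hxp))
          (by rw [Nat.card_zpowers, orderOf_coe, hx]; exact hZp)
        obtain ⟨k, hk⟩ := mem_zpowers_iff.mp (heq.ge (hone y y.2 hyp))
        exact mem_zpowers_iff.mpr ⟨k, Subtype.ext (by simpa using hk)⟩
      rcases PGroup.unique_order_p_cases (hG.to_subgroup K) hsame with hc | ⟨h2, -⟩
      · exact (Subgroup.isCyclic_iff_exists_zpowers_eq_top _).mp hc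
      · exact absurd h2 hp2
    have hgK : g ^ p ∈ K :=
      ⟨hpowC g, mem_centralizer_singleton_iff.mpr ((Commute.refl g).pow_left p).eq⟩
    have hKcard : Nat.card K ≤ p := by
      by_contra hbig
      obtain ⟨e, he⟩ := IsPGroup.iff_orderOf.mp hG v
      have he2 : 2 ≤ e := by
        by_contra he'
        refine hbig ?_
        rw [← hv, Nat.card_zpowers, he]
        exact (Nat.pow_le_pow_right hp.out.pos (show e ≤ 1 by omega)).trans (pow_one p).le
      obtain ⟨i, hi⟩ := mem_zpowers_iff.mp (hv.ge hgK)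
      have hdvd : (p : ℤ) ∣ i := by
        have h1 : v ^ (i * (p : ℤ)) = 1 := by
          rw [zpow_mul, hi, zpow_natCast, ← pow_mul, ← sq, hgp]
        rw [← orderOf_dvd_iff_zpow_eq_one, he] at h1
        obtain ⟨e', rfl⟩ : ∃ e', e = e' + 2 := ⟨e - 2, by omega⟩
        push_cast at h1
        rw [show (p : ℤ) ^ (e' + 2) = ((p : ℤ) ^ e' * p) * p by ring] at h1
        exact dvd_trans (dvd_mul_left _ _)
          ((mul_dvd_mul_iff_right (by exact_mod_cast hp.out.ne_zero)).mp h1)
      obtain ⟨l, rfl⟩ := hdvd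
      have hvg : Commute g (v ^ (-l)) :=
        ((hKg v (hv.le (mem_zpowers v))).zpow_left _).symm
      set g' := g * v ^ (-l)
      have hg'p : g' ^ p = 1 := by
        rw [hvg.mul_pow, ← hi, ← zpow_natCast (v ^ (-l)), ← zpow_mul, ← zpow_add,
          show (p : ℤ) * l + -l * p = 0 by ring, zpow_zero]
      have hg'C : g' ∉ C := fun h => hgC (by
        have := mul_mem h (inv_mem (hv.le (zpow_mem (mem_zpowers v) (-l))).1)
        simpa [g'] using this)
      set H := A ⊔ zpowers g'
      have hH : Nat.card H ≤ p ^ 3 := by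
        rw [show H = zpowers g' ⊔ A from sup_comm _ _]
        refine (PGroup.card_sup_le (by rw [normalizer_eq_top A]; exact le_top)).trans ?_
        rw [Nat.card_zpowers, hA, pow_succ' p 2]
        exact Nat.mul_le_mul_right _
          (Nat.le_of_dvd hp.out.pos (orderOf_dvd_of_pow_eq_one hg'p))
      have hcl := classTwo_of_card_le_cube (hG.to_subgroup H) hH
      have hHe : ∀ h : H, h ^ p = 1 := by
        intro h
        refine PGroup.exponent_omega_classTwo hp.out hp2 hcl ?_
        suffices hle : H ≤ (Subgroup.closure {x : H | x ^ p = 1}).map H.subtype by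
          obtain ⟨h', hh', he⟩ := hle h.2
          exact Subtype.ext he ▸ hh'
        refine sup_le (fun a ha => ⟨⟨a, mem_sup_left ha⟩,
          subset_closure (Subtype.ext (by simpa using hAe a ha)), rfl⟩) (zpowers_le.mpr ?_)
        exact ⟨⟨g', mem_sup_right (mem_zpowers g')⟩,
          subset_closure (Subtype.ext (by simpa using hg'p)), rfl⟩
      have hle := hs H fun x hx => by simpa using congrArg Subtype.val (hHe ⟨x, hx⟩)
      have := eq_of_le_of_card_le (show A ≤ H from le_sup_left) (hle.trans hA.ge)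
      exact hg'C (hAC (by rw [this]; exact mem_sup_right (mem_zpowers g')))
    refine ⟨centralizer ({g} : Set G), ?_, ?_⟩
    · have hg1 : g ∈ centralizer ({g} : Set G) := mem_centralizer_singleton_iff.mpr rfl
      have hlt : K < centralizer ({g} : Set G) := lt_of_le_of_ne inf_le_right fun he =>
        hgC ((he ▸ hg1 : g ∈ K).1)
      have h1 : Nat.card (centralizer ({g} : Set G)) ≤ Nat.card K * C.index := by
        refine (PGroup.card_le_card_inf_mul_index _ C).trans_eq ?_
        rw [hK, inf_comm]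
      have h2 := mul_card_le_of_lt hG hlt
      have hK2 : p ≤ Nat.card K := by
        -- the fixed point of `g` in `A`
        obtain ⟨a, haA, ha1, hac⟩ : ∃ a ∈ A, a ≠ 1 ∧ a ∈ center G := by
          obtain ⟨T, hTn, hTA, hTc, hT⟩ := PGroup.exists_normal_card_eq_prime hG (N := A) (by
            intro h
            rw [h, card_bot] at hA
            exact absurd hA.symm (Nat.one_lt_pow (by norm_num) hp.out.one_lt).ne')
          obtain ⟨a, ha, ha1⟩ := SetLike.exists_of_lt (show (⊥ : Subgroup G) < T from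
            bot_lt_iff_ne_bot.mpr fun h => by
              rw [h, card_bot] at hT; exact hp.out.one_lt.ne hT)
          exact ⟨a, hTA ha, fun h => ha1 (mem_bot.mpr h), hTc ha⟩
        refine le_trans ?_ (Nat.le_of_dvd Nat.card_pos (card_dvd_of_le
          (zpowers_le.mpr (show a ∈ K from ⟨hAC haA,
            mem_centralizer_singleton_iff.mpr ((mem_center_iff.mp hac g).symm)⟩))))
        rw [Nat.card_zpowers, orderOf_eq_prime (hAe a haA) ha1]
      rw [sq]
      exact le_antisymm (h1.trans (Nat.mul_le_mul hKcard hCi))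
        ((Nat.mul_le_mul_left p hK2).trans h2)
    · have hg1 : g ∈ centralizer ({g} : Set G) := mem_centralizer_singleton_iff.mpr rfl
      refine le_antisymm (fun x hx => mem_centralizer_singleton_iff.mpr
        (mem_centralizer_iff.mp hx g hg1).symm) ?_
      have hcard : Nat.card (centralizer ({g} : Set G)) ≤ p ^ 2 := by
        have h1 : Nat.card (centralizer ({g} : Set G)) ≤ Nat.card K * C.index := by
          refine (PGroup.card_le_card_inf_mul_index _ C).trans_eq ?_
          rw [hK, inf_comm]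
        rw [sq]
        exact h1.trans (Nat.mul_le_mul hKcard hCi)
      have hab : ∀ a b : centralizer ({g} : Set G), a * b = b * a := by
        obtain ⟨k, hk⟩ := exists_subgroup_card_eq_pow hG (centralizer ({g} : Set G))
        have hk2 : k ≤ 2 := (Nat.pow_le_pow_iff_right hp.out.one_lt).mp (hk ▸ hcard)
        interval_cases k
        · haveI : Subsingleton (centralizer ({g} : Set G)) :=
            (Nat.card_eq_one_iff_unique.mp (by simpa using hk)).1
          exact fun a b => Subsingleton.elim _ _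
        · haveI : IsCyclic (centralizer ({g} : Set G)) :=
            isCyclic_of_prime_card (p := p) (by simpa using hk)
          exact IsCyclic.isMulCommutative.is_comm.comm
        · exact (IsPGroup.isMulCommutative_of_card_eq_prime_sq hk).is_comm.comm
      exact fun a ha => mem_centralizer_iff.mpr fun b hb =>
        congrArg Subtype.val (hab ⟨b, hb⟩ ⟨a, ha⟩)
  · push Not at hout
    refine Or.inr (Or.inl ⟨hs, fun H hH => ?_⟩)
    have hHp : IsPGroup p H := IsPGroup.of_card hH
    by_cases hbig : ∃ x : H, p ^ 3 ≤ orderOf x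
    · obtain ⟨x, hx⟩ := hbig
      refine classTwo_of_isMetacyclic hp2 hH ?_
      obtain ⟨k, hk⟩ := IsPGroup.index hHp (zpowers x)
      have hmul := (zpowers x).card_mul_index
      rw [Nat.card_zpowers, hH, hk] at hmul
      have hk1 : k ≤ 1 := by
        by_contra h'
        have h5 : p ^ 5 ≤ p ^ 4 := by
          calc p ^ 5 = p ^ 3 * p ^ 2 := by ring
            _ ≤ orderOf x * p ^ k :=
              Nat.mul_le_mul hx (Nat.pow_le_pow_right hp.out.pos (by omega))
            _ = p ^ 4 := hmul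
        exact absurd ((Nat.pow_le_pow_iff_right hp.out.one_lt).mp h5) (by norm_num)
      interval_cases k
      · have htop : zpowers x = ⊤ := index_eq_one.mp (hk.trans (pow_zero p))
        refine ⟨⊤, inferInstance, ?_, ?_⟩
        · exact htop ▸ inferInstanceAs (IsCyclic (zpowers x))
        · haveI : Subsingleton (H ⧸ (⊤ : Subgroup H)) := QuotientGroup.subsingleton_quotient_top
          exact isCyclic_of_subsingleton
      · haveI : (zpowers x).Normal := by
          obtain ⟨M, hMc, hxM⟩ := (eq_top_or_exists_le_coatom (zpowers x)).resolve_left fun he => by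
            rw [he, index_top] at hk; exact hp.out.one_lt.ne (hk.trans (pow_one p))
          have : zpowers x = M := eq_of_le_of_card_le hxM (by
            have h1 := M.card_mul_index
            rw [PGroup.isCoatom_index hHp hMc, hH] at h1
            rw [Nat.card_zpowers]
            exact le_of_eq (Nat.eq_of_mul_eq_mul_right hp.out.pos
              (h1.trans (by rw [← hmul, pow_one]))))
          exact this ▸ PGroup.isCoatom_normal hHp hMc
        refine ⟨zpowers x, inferInstance, inferInstance, isCyclic_of_prime_card (p := p) ?_⟩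
        rw [← index_eq_card, hk, pow_one]
    push Not at hbig
    have hHC : H ≤ C := by
      intro x hx
      by_contra hxC
      refine hout x hxC ?_
      obtain ⟨k, hk⟩ := IsPGroup.iff_orderOf.mp hHp ⟨x, hx⟩
      have := hbig ⟨x, hx⟩
      rw [hk, Nat.pow_lt_pow_iff_right hp.out.one_lt] at this
      rw [← orderOf_dvd_iff_pow_eq_one, ← Subgroup.orderOf_mk x hx, hk]
      exact pow_dvd_pow p (by omega)
    refine classTwo_of_center hHp ?_
    by_cases hAH : A ≤ H
    · have hle : A.subgroupOf H ≤ center H := fun a ha => mem_center_iff.mpr fun b =>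
        Subtype.ext (mem_centralizer_iff.mp (hHC b.2) a (mem_subgroupOf.mp ha)).symm
      have := Nat.le_of_dvd Nat.card_pos (card_dvd_of_le hle)
      rw [Nat.card_congr (subgroupOfEquivOfLe hAH).toEquiv, hA] at this
      rw [hH, show p ^ 4 = p ^ 2 * p ^ 2 by ring]
      exact Nat.mul_le_mul_left _ this
    · -- a unique subgroup of order `p`: cyclic, impossible
      exfalso
      have hlt : A ⊓ H < A := lt_of_le_of_ne inf_le_left fun he => hAH (inf_eq_left.mp he)
      have hle : Nat.card (A ⊓ H : Subgroup G) ≤ p := by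
        have := mul_card_le_of_lt hG hlt
        rw [hA, sq] at this
        exact Nat.le_of_mul_le_mul_left this hp.out.pos
      have hsame : ∀ x y : H, orderOf x = p → y ^ p = 1 → y ∈ zpowers x := by
        intro x y hx hy
        have hxp : (x : G) ^ p = 1 := by
          have := congrArg Subtype.val (orderOf_dvd_iff_pow_eq_one.mp (dvd_of_eq hx))
          simpa using this
        have hyp : (y : G) ^ p = 1 := by simpa using congrArg Subtype.val hy
        have heq : zpowers (x : G) = A ⊓ H := eq_of_le_of_card_le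
          (zpowers_le.mpr ⟨hCA x (hHC x.2) hxp, x.2⟩)
          (by rw [Nat.card_zpowers, orderOf_coe, hx]; exact hle)
        obtain ⟨k, hk⟩ := mem_zpowers_iff.mp
          (heq.ge (show (y : G) ∈ A ⊓ H from ⟨hCA y (hHC y.2) hyp, y.2⟩))
        exact mem_zpowers_iff.mpr ⟨k, Subtype.ext (by simpa using hk)⟩
      rcases PGroup.unique_order_p_cases hHp hsame with hc | ⟨h2, -⟩
      · obtain ⟨x, hx⟩ := (_root_.isCyclic_iff_exists_zpowers_eq_top).mp hc
        have := hbig x
        rw [← Nat.card_zpowers, hx, card_top, hH] at this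
        exact absurd this (not_lt.mpr (Nat.pow_le_pow_right hp.out.pos (by norm_num)))
      · exact hp2 h2

theorem isMetacyclic_of_isCyclic (h : IsCyclic G) : Cfsg.IsMetacyclic G :=
  ⟨⊥, inferInstance, inferInstance,
    isCyclic_of_surjective (QuotientGroup.mk' ⊥) (QuotientGroup.mk'_surjective _)⟩

theorem rank_two_classification (hp2 : p ≠ 2) {n : ℕ} (hn : Nat.card G = p ^ n)
    (hrk : Cfsg.PRankLE p 2 G) :
    Cfsg.IsMetacyclic G ∨ TypeTwo p n G ∨ TypeThree p n G ∨
      (p = 3 ∧ 2 ≤ n ∧ (⊤ : Subgroup G).lowerCentralSeries (n - 2) ≠ ⊥) := by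
  have hG : IsPGroup p G := IsPGroup.of_card hn
  have hp3 : p = 3 ∨ 3 < p := by
    have := hp.out.two_le
    omega
  by_cases hs : SmallExponent p G
  · rcases hp3 with h3 | h3
    · rcases good_or_maximalClass hp2 hG hs with hc | hg | ⟨A, hA, hC⟩
      · exact Or.inl (isMetacyclic_of_isCyclic hc)
      · exact Or.inl (isMetacyclic_of_thin hp2 hG (thin_of_good hp2 _ G hG hg le_rfl))
      · exact Or.inr (Or.inr (Or.inr ⟨h3, lcs_ne_bot_of_selfCentralizing hn hA hC⟩))
    · exact Or.inl (PGroup.isMetacyclic_of_smallExponent h3 hG hs)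
  · simp only [SmallExponent, not_forall, not_le] at hs
    obtain ⟨H, hHe, hH⟩ := hs
    obtain ⟨k, hk⟩ := exists_subgroup_card_eq_pow hG H
    rw [hk, Nat.pow_lt_pow_iff_right hp.out.one_lt] at hH
    have h3c : p ^ 3 ≤ Nat.card H := hk ▸ Nat.pow_le_pow_right hp.out.pos (by omega)
    obtain ⟨E, hEH, hE⟩ := Sylow.exists_subgroup_le_card_pow_prime_of_le_card hp.out hG h3c
    have hEe : ∀ a ∈ E, a ^ p = 1 := fun a ha => hHe a (hEH ha)
    have hnc : ¬ ∀ a ∈ E, ∀ b ∈ E, a * b = b * a := fun hc => by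
      have := hrk E ⟨⟨fun a b => Subtype.ext (hc a a.2 b b.2)⟩⟩ hEe
      rw [hE] at this
      exact absurd ((Nat.pow_le_pow_iff_right hp.out.one_lt).mp this) (by norm_num)
    have hHeis : Heis p E := ⟨hE, hEe, hnc⟩
    have finish : ∀ hEn : E.Normal, Cfsg.IsMetacyclic G ∨ TypeTwo p n G ∨ TypeThree p n G ∨
        (p = 3 ∧ 2 ≤ n ∧ (⊤ : Subgroup G).lowerCentralSeries (n - 2) ≠ ⊥) := fun hEn => by
      haveI := hEn
      obtain ⟨A, S⟩ := exists_setup hp2 hG hrk hHeis
      rcases S.type_two_or_three hn with h | h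
      exacts [Or.inr (Or.inl h), Or.inr (Or.inr (Or.inl h))]
    rcases hp3 with h3 | h3
    · rcases normal_or_maximalClass hp2 hG hrk hHeis with hEn | ⟨A, hA, hC⟩
      · exact finish hEn
      · exact Or.inr (Or.inr (Or.inr ⟨h3, lcs_ne_bot_of_selfCentralizing hn hA hC⟩))
    · refine finish ?_
      set Ω := Subgroup.closure {x : G | x ^ p = 1}
      have hΩe : ∀ g ∈ Ω, g ^ p = 1 := fun g hg =>
        PGroup.exponent_omega_rankTwo h3 hG (fun B hB => hrk B hB.1 hB.2) hg
      have hΩc : Nat.card Ω ≤ p ^ 3 := by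
        refine PGroup.card_le_cube_of_exponent_rank_two (hG.to_subgroup Ω)
          (fun g => Subtype.ext (by simpa using hΩe g g.2)) fun B hB => ?_
        rw [← card_map_of_injective (f := Ω.subtype) Ω.subtype_injective]
        refine hrk _ ⟨⟨?_⟩⟩ ?_
        · rintro ⟨_, a, ha, rfl⟩ ⟨_, b, hb, rfl⟩
          exact Subtype.ext (congrArg (fun u : Ω => (u : G)) (hB a ha b hb))
        · rintro _ ⟨b, -, rfl⟩; exact hΩe _ b.2
      have hEΩ : E = Ω := eq_of_le_of_card_le (fun a ha => subset_closure (hEe a ha))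
        (hΩc.trans hE.ge)
      rw [hEΩ]
      refine ⟨fun x hx g => ?_⟩
      induction hx using closure_induction with
      | mem y hy => exact subset_closure (show (g * y * g⁻¹) ^ p = 1 by
          rw [conj_pow, show y ^ p = 1 from hy]; simp)
      | one => simp
      | mul a b _ _ ha hb => simpa [mul_assoc] using mul_mem ha hb
      | inv a _ ha => simpa [mul_assoc] using inv_mem ha

end Cfsg.Agent.RankTwoOdd
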